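import Cfsg.Agent.Lib.MTwelveUnique.General
import Cfsg.Agent.Lib.Char.Ito
import Mathlib

/-!
The subgroup generated by the Sylow 11-subgroups of a group of order 95040 with a character of degree
divisible by eleven is a central extension of a simple group.
-/

set_option autoImplicit false

noncomputable section

namespace CfsgLib.MTwelveNSE.Core

open Subgroup
open scoped Pointwise
attribute [local instance] Classical.propDecidable

variable {L : Type*} [Group L] [Finite L]

theorem small_mod : ∀ k ∈ Nat.divisors 64 ∪ Nat.divisors 27 ∪ Nat.divisors 5, ∀ d ∈ Nat.divisors k,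
    d % 11 = k % 11 → d = k := by
  decide +kernel

/-- A normal subgroup of order prime to eleven is centralised by every element of order dividing eleven. -/
theorem centralizes (hL : Nat.card L ∣ 95040) (N : Subgroup L) [N.Normal] (hN : ¬ 11 ∣ Nat.card N)
    {x : L} (hx : x ^ 11 = 1) : N ≤ centralizer ({x} : Set L) := by
  classical
  haveI : Fact (Nat.Prime 11) := ⟨by norm_num⟩
  have hNd : Nat.card N ∣ 8640 := by
    have h : Nat.card N ∣ 11 * 8640 := (card_subgroup_dvd_card N).trans hL
    exact ((Nat.Prime.coprime_iff_not_dvd (by norm_num)).mpr hN).symm.dvd_of_dvd_mul_left h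
  set C := centralizer ({x} : Set L) ⊓ N with hC
  suffices h : Nat.card N ∣ Nat.card C by
    have e : C = N := eq_of_le_of_card_ge inf_le_right (Nat.le_of_dvd Nat.card_pos h)
    exact e ▸ inf_le_left
  refine Nat.dvd_iff_prime_pow_dvd_dvd _ _ |>.mpr fun q k hq hqk => ?_
  haveI := Fact.mk hq
  have hq11 : q ≠ 11 ∨ k = 0 := by
    rcases Nat.eq_zero_or_pos k with h | h
    · exact Or.inr h
    · left; rintro rfl
      exact hN ((dvd_pow_self 11 h.ne').trans hqk)
  rcases hq11 with hq11 | rfl
  swap
  · simp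
  have hns : ¬ 11 ∣ Nat.card (Sylow q N) := fun h => hN (by
    obtain ⟨Q⟩ : Nonempty (Sylow q N) := inferInstance
    exact h.trans ((Sylow.card_eq_index_normalizer Q) ▸ Subgroup.index_dvd_card _))
  have hZ : IsPGroup 11 (zpowers x) := by
    rintro ⟨y, hy⟩
    obtain ⟨i, rfl⟩ := mem_zpowers_iff.mp hy
    refine ⟨1, Subtype.ext ?_⟩
    show (x ^ i) ^ 11 ^ 1 = 1
    rw [pow_one, ← zpow_natCast, ← zpow_mul, mul_comm, zpow_mul, zpow_natCast, hx, one_zpow]
  letI := MulAction.compHom (Sylow q N) ((MulAut.conjNormal (H := N)).comp (zpowers x).subtype)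
  obtain ⟨Q, hQ⟩ := hZ.nonempty_fixed_point_of_prime_not_dvd_card (Sylow q N) hns
  have hQ' : MulAut.conjNormal (H := N) x • Q = Q := hQ ⟨x, mem_zpowers x⟩
  set Q' := (Q : Subgroup N).map N.subtype with hQ'd
  have hQc : Nat.card Q' = Nat.card (Q : Subgroup N) := card_map_of_injective N.subtype_injective
  have hxN : x ∈ normalizer (Q' : Set L) := by
    rw [mem_normalizer_iff_map_conj_eq]
    refine eq_of_le_of_card_ge ?_ (le_of_eq (card_map_of_injective (MulEquiv.injective _)).symm)
    rintro _ ⟨_, ⟨r, hr, rfl⟩, rfl⟩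
    refine ⟨MulAut.conjNormal (H := N) x r, ?_, MulAut.conjNormal_apply x r⟩
    have h := Subgroup.smul_mem_pointwise_smul r (MulAut.conjNormal (H := N) x) (Q : Subgroup N) hr
    rw [← Sylow.pointwise_smul_def, hQ'] at h
    exact h
  have hk : Nat.card Q' ∣ 8640 := by
    rw [hQc]; exact (card_subgroup_dvd_card _).trans hNd
  have hkmem : Nat.card Q' ∈ Nat.divisors 64 ∪ Nat.divisors 27 ∪ Nat.divisors 5 := by
    obtain ⟨b, hb⟩ := IsPGroup.iff_card.mp Q.2
    rw [hQc, hb] at hk ⊢
    simp only [Finset.mem_union, Nat.mem_divisors]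
    rcases Nat.eq_zero_or_pos b with rfl | hb0
    · simp
    have hq8640 : q ∣ 2 ^ 6 * 3 ^ 3 * 5 := by
      norm_num; exact (dvd_pow_self q hb0.ne').trans hk
    rcases hq.dvd_mul.mp hq8640 with h | h
    · rcases hq.dvd_mul.mp h with h | h
      · obtain rfl := (Nat.prime_dvd_prime_iff_eq hq Nat.prime_two).mp (hq.dvd_of_dvd_pow h)
        exact Or.inl (Or.inl ⟨(((by norm_num : Nat.Coprime 2 135)).pow_left b).dvd_of_dvd_mul_right
          (show 2 ^ b ∣ 64 * 135 by norm_num; exact hk), by norm_num⟩)
      · obtain rfl := (Nat.prime_dvd_prime_iff_eq hq Nat.prime_three).mp (hq.dvd_of_dvd_pow h)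
        exact Or.inl (Or.inr ⟨(((by norm_num : Nat.Coprime 3 320)).pow_left b).dvd_of_dvd_mul_right
          (show 3 ^ b ∣ 27 * 320 by norm_num; exact hk), by norm_num⟩)
    · obtain rfl := (Nat.prime_dvd_prime_iff_eq hq (by norm_num)).mp h
      exact Or.inr ⟨(((by norm_num : Nat.Coprime 5 1728)).pow_left b).dvd_of_dvd_mul_right
          (show 5 ^ b ∣ 5 * 1728 by norm_num; exact hk), by norm_num⟩
  have hle : Q' ≤ centralizer ({x} : Set L) :=
    CfsgLib.MTwelveUnique.centralizes_of_modEq (p := 11) Q' hx hxN (small_mod _ hkmem)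
  refine (Q.pow_dvd_card_of_pow_dvd_card hqk).trans ?_
  rw [← hQc]
  exact card_dvd_of_le (le_inf hle (map_subtype_le _))

variable {G : Type*} [Group G] [Fintype G]

/-- An irreducible character of degree divisible by eleven forbids a normal Sylow 11-subgroup. -/
theorem not_normal [Fact (Nat.Prime 11)] (hcard : Nat.card G = 95040) {χ : G → ℂ}
    (hχ : Cfsg.IsIrrCharacter G χ) {c : ℕ} (hc : χ 1 = c) (h11 : 11 ∣ c) (P : Sylow 11 G)
    (hP : Nat.card (P : Subgroup G) = 11) : ¬ (P : Subgroup G).Normal := by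
  intro h
  haveI := h
  haveI := isCyclic_of_prime_card hP
  have hd := CfsgLib.Char.degree_dvd_index_abelian_normal (P : Subgroup G) (fun a ha b hb =>
    congrArg Subtype.val (IsCyclic.commGroup.mul_comm (⟨a, ha⟩ : (P : Subgroup G)) ⟨b, hb⟩)) hχ hc
  have hm := (P : Subgroup G).card_mul_index
  rw [hP, hcard] at hm
  have := h11.trans hd
  omega

set_option maxHeartbeats 1000000 in
/-- The structure of the normal closure of a Sylow 11-subgroup. -/
theorem structure_normalClosure [Fact (Nat.Prime 11)] (hcard : Nat.card G = 95040) (P : Sylow 11 G)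
    (hP : Nat.card (P : Subgroup G) = 11) (hn : ¬ (P : Subgroup G).Normal) :
    ¬ 11 ∣ Nat.card (center (normalClosure ((P : Subgroup G) : Set G))) ∧
    IsSimpleGroup ((normalClosure ((P : Subgroup G) : Set G)) ⧸
      center (normalClosure ((P : Subgroup G) : Set G))) ∧
    ¬ IsMulCommutative ((normalClosure ((P : Subgroup G) : Set G)) ⧸
      center (normalClosure ((P : Subgroup G) : Set G))) ∧
    11 ∣ Nat.card ((normalClosure ((P : Subgroup G) : Set G)) ⧸
      center (normalClosure ((P : Subgroup G) : Set G))) ∧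
    ¬ 11 ∣ (normalClosure ((P : Subgroup G) : Set G)).index := by
  classical
  set L := normalClosure ((P : Subgroup G) : Set G) with hL
  have hPL : (P : Subgroup G) ≤ L := fun g hg => subset_normalClosure hg
  have hLd : Nat.card L ∣ 95040 := hcard ▸ card_subgroup_dvd_card L
  have h11L : 11 ∣ Nat.card L := (dvd_of_eq hP.symm).trans (card_dvd_of_le hPL)
  have hindex : ¬ 11 ∣ L.index := by
    intro h
    have := Nat.mul_dvd_mul h11L h
    rw [L.card_mul_index, hcard] at this
    norm_num at this
  have hPc : ∀ T : Sylow 11 L, Nat.card (T : Subgroup L) = 11 := fun T => by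
    have h := CfsgLib.SmallGroups.card_sylow_eq (p := 11) (a := 1) (m := Nat.card L / 11)
      (G := L) (by rw [pow_one, Nat.mul_div_cancel' h11L]) (fun h => by
        have h2 := Nat.mul_dvd_mul_left 11 h
        rw [Nat.mul_div_cancel' h11L] at h2
        have := h2.trans hLd
        norm_num at this) T
    simpa using h
  -- every conjugate of the Sylow subgroup generates
  have hgen : ∀ N : Subgroup L, (∀ T : Sylow 11 L, (T : Subgroup L) ≤ N) → N = ⊤ := by
    intro N hall
    have hle : L ≤ N.map L.subtype := by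
      conv_lhs => rw [hL]
      rw [normalClosure, closure_le]
      intro g hg
      obtain ⟨a, ha, hc⟩ := Group.mem_conjugatesOfSet_iff.mp hg
      obtain ⟨u, hu⟩ := isConj_iff.mp hc
      have hgL : g ∈ L := subset_closure hg
      have hpg : IsPGroup 11 (zpowers (⟨g, hgL⟩ : L)) := by
        rintro ⟨y, hy⟩
        obtain ⟨i, rfl⟩ := mem_zpowers_iff.mp hy
        refine ⟨1, Subtype.ext (Subtype.ext ?_)⟩
        show ((g ^ i : G)) ^ 11 ^ 1 = 1
        have ha11 : a ^ 11 = 1 := by
          have := pow_card_eq_one' (x := (⟨a, ha⟩ : (P : Subgroup G)))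
          rw [hP] at this
          exact congrArg Subtype.val this
        rw [pow_one, ← zpow_natCast, ← zpow_mul, mul_comm, zpow_mul, zpow_natCast, ← hu, conj_pow, ha11,
          mul_one, mul_inv_cancel, one_zpow]
      obtain ⟨T, hT⟩ := hpg.exists_le_sylow
      exact ⟨⟨g, hgL⟩, hall T (hT (mem_zpowers _)), rfl⟩
    refine eq_top_iff.mpr fun l _ => ?_
    obtain ⟨n, hn, he⟩ := hle l.2
    exact (Subtype.ext he : n = l) ▸ hn
  have hcoprime : ∀ N : Subgroup L, N.Normal → ¬ 11 ∣ Nat.card N → N ≤ center L := by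
    intro N hN h11 a ha
    rw [mem_center_iff]
    intro g
    have : (centralizer ({a} : Set L)) = ⊤ := hgen _ fun T t ht => by
      rw [mem_centralizer_singleton_iff]
      have ht11 : t ^ 11 = 1 := by
        have := pow_card_eq_one' (x := (⟨t, ht⟩ : (T : Subgroup L)))
        rw [hPc T] at this
        exact congrArg Subtype.val this
      exact (mem_centralizer_singleton_iff.mp (centralizes hLd N h11 ht11 ha)).symm
    exact mem_centralizer_singleton_iff.mp (this ▸ mem_top g)
  have hfull : ∀ N : Subgroup L, N.Normal → 11 ∣ Nat.card N → N = ⊤ := by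
    intro N hN h11
    obtain ⟨z, hz⟩ := exists_prime_orderOf_dvd_card' (G := N) 11 h11
    have hzL : orderOf (z : L) = 11 := by rw [Subgroup.orderOf_coe, hz]
    obtain ⟨T, hT⟩ := (IsPGroup.of_card (p := 11) (n := 1) (by rw [Nat.card_zpowers, hzL, pow_one]) :
      IsPGroup 11 (zpowers (z : L))).exists_le_sylow
    have hTz : zpowers (z : L) = (T : Subgroup L) :=
      eq_of_le_of_card_ge hT (by rw [hPc T, Nat.card_zpowers, hzL])
    refine hgen N fun U => ?_
    obtain ⟨g, hg⟩ := MulAction.exists_smul_eq L T U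
    rw [← hg, Sylow.coe_subgroup_smul]
    rintro _ ⟨w, hw, rfl⟩
    exact hN.conj_mem w ((zpowers_le.mpr z.2 : zpowers (z : L) ≤ N) (hTz ▸ hw)) g
  have hZ : ¬ 11 ∣ Nat.card (center L) := by
    intro h
    have htop := hfull (center L) inferInstance h
    obtain ⟨T⟩ : Nonempty (Sylow 11 L) := inferInstance
    have hTn : (T : Subgroup L).Normal := ⟨fun w hw g => by
      have : w ∈ center L := htop ▸ mem_top w
      rw [mem_center_iff.mp this g, mul_inv_cancel_right]; exact hw⟩
    have hcomm : ∀ a ∈ L, ∀ b ∈ L, a * b = b * a := fun a ha b hb =>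
      congrArg Subtype.val (mem_center_iff.mp (htop ▸ mem_top (⟨b, hb⟩ : L)) ⟨a, ha⟩)
    refine hn ⟨fun p hp g => ?_⟩
    haveI := Sylow.unique_of_normal (P.subtype hPL) ⟨fun w hw g => by
      have : w ∈ center L := htop ▸ mem_top w
      rw [mem_center_iff.mp this g, mul_inv_cancel_right]; exact hw⟩
    have hgp : g * p * g⁻¹ ∈ L := (normalClosure_normal).conj_mem p (hPL hp) g
    have hpg : IsPGroup 11 (zpowers (⟨g * p * g⁻¹, hgp⟩ : L)) := by
      rintro ⟨y, hy⟩
      obtain ⟨i, rfl⟩ := mem_zpowers_iff.mp hy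
      refine ⟨1, Subtype.ext (Subtype.ext ?_)⟩
      show (((g * p * g⁻¹) ^ i : G)) ^ 11 ^ 1 = 1
      have hp11 : p ^ 11 = 1 := by
        have := pow_card_eq_one' (x := (⟨p, hp⟩ : (P : Subgroup G)))
        rw [hP] at this
        exact congrArg Subtype.val this
      rw [pow_one, ← zpow_natCast, ← zpow_mul, mul_comm, zpow_mul, zpow_natCast, conj_pow, hp11,
        mul_one, mul_inv_cancel, one_zpow]
    obtain ⟨U, hU⟩ := hpg.exists_le_sylow
    have := hU (mem_zpowers _)
    rw [Subsingleton.elim U (P.subtype hPL)] at this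
    exact this
  set π := QuotientGroup.mk' (center L) with hπ
  have h11S : 11 ∣ Nat.card (L ⧸ center L) := by
    have h := h11L
    rw [card_eq_card_quotient_mul_card_subgroup (center L)] at h
    exact ((Nat.Prime.dvd_mul (by norm_num)).mp h).resolve_right hZ
  haveI : Nontrivial (L ⧸ center L) := Finite.one_lt_card_iff_nontrivial.mp
    (lt_of_lt_of_le (by norm_num) (Nat.le_of_dvd Nat.card_pos h11S))
  haveI hS : IsSimpleGroup (L ⧸ center L) := ⟨fun H hH => by
    have hN : (H.comap π).Normal := hH.comap π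
    by_cases h : 11 ∣ Nat.card (H.comap π)
    · right
      have := hfull _ hN h
      rw [← map_comap_eq_self_of_surjective (QuotientGroup.mk'_surjective _) H, this,
        map_top_of_surjective _ (QuotientGroup.mk'_surjective _)]
    · left
      have := hcoprime _ hN h
      rw [← map_comap_eq_self_of_surjective (QuotientGroup.mk'_surjective _) H, eq_bot_iff]
      refine (map_mono this).trans ?_
      rw [QuotientGroup.map_mk'_self]⟩
  refine ⟨hZ, hS, fun hab => ?_, h11S, hindex⟩
  -- an abelian quotient by the centre is cyclic, so the subgroup is abelian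
  haveI := hab
  letI : CommGroup (L ⧸ center L) := { (inferInstance : Group (L ⧸ center L)) with mul_comm := hab.is_comm.comm }
  haveI : IsCyclic (L ⧸ center L) := inferInstance
  have hcomm := commutative_of_cyclic_center_quotient π (by rw [hπ, QuotientGroup.ker_mk'])
  have htop : center L = ⊤ := eq_top_iff.mpr fun a _ => mem_center_iff.mpr fun b => hcomm b a
  have : Nat.card (L ⧸ center L) = 1 := by
    rw [← Subgroup.index_eq_card, htop, index_top]
  exact absurd (this ▸ h11S) (by norm_num)

end CfsgLib.MTwelveNSE.Core
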