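import Cfsg.Agent.Lib.MTwelveNSE.Basic
import Cfsg.Agent.Lib.Golay.Dodecad
import Cfsg.Prelude.Def_Sporadic

/-!
Recognition of the Mathieu group of degree twelve from uniqueness by order and element-order counts.
-/

set_option autoImplicit false

namespace CfsgLib.MTwelveNSE

open Cfsg CfsgLib.Golay
open scoped Pointwise

/-- Uniqueness by order gives an isomorphism with the concrete group. -/
theorem iso_of_unique {G : Type*} [Group G] [Finite G]
    (hu : ∀ (d : Finset GolayPt), d ∈ dodecads → Nonempty (G ≃* ↥(MulAction.stabilizer M24 d)))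
    (hu' : ∀ (d : Finset GolayPt), d ∈ dodecads →
      Nonempty (↥Cfsg.Spor.M12 ≃* ↥(MulAction.stabilizer M24 d))) :
    Nonempty (G ≃* ↥Cfsg.Spor.M12) := by
  obtain ⟨e⟩ := hu _ baseDodecad_mem
  obtain ⟨e'⟩ := hu' _ baseDodecad_mem
  exact ⟨e.trans e'.symm⟩

theorem isM12_M12 : IsM12 ↥Cfsg.Spor.M12 := ⟨M12_simple, card_M12⟩

theorem isM12_of_nse {G : Type*} [Group G] [Finite G]
    (hcard : Nat.card G = Nat.card ↥Cfsg.Spor.M12)
    (hnse : {c : ℕ | 0 < c ∧ ∃ n : ℕ, c = Nat.card {g : G // orderOf g = n}} =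
      {c : ℕ | 0 < c ∧ ∃ n : ℕ, c = Nat.card {g : ↥Cfsg.Spor.M12 // orderOf g = n}}) :
    IsM12 G := by
  haveI := M12_simple
  exact ⟨isSimpleGroup_of_counts card_M12 (hcard.trans card_M12) hnse, hcard.trans card_M12⟩

end CfsgLib.MTwelveNSE
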