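import Cfsg.Agent.Lib.MTwelveNSE.SmallTen

/-!
A simple group with order a multiple of eleven dividing 95040 has order 660, 7920 or 95040.
-/

set_option autoImplicit false

noncomputable section

namespace CfsgLib.MTwelveNSE.Small

open Subgroup CfsgLib.InvolChar CfsgLib.Blocks CfsgLib.Blocks.PrimeSylow Cfsg
attribute [local instance] Classical.propDecidable

variable {G : Type*} [Group G] [Fintype G] [IsSimpleGroup G]
variable (hna : ¬ IsMulCommutative G)

theorem degree_31680 : ∀ f ∈ List.range 178, 2 ≤ f → f ∣ 31680 →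
    ((f % 44 = 1 → f = 45) ∧ f % 44 ≠ 43) := by
  decide +kernel

theorem degree_15840 : ∀ f ∈ List.range 126, 2 ≤ f → f ∣ 15840 → (f % 11 = 1 ∨ f % 11 = 10) →
    f ∈ [10, 12, 32, 45, 120] := by
  decide +kernel

theorem value_15840 : ∀ f ∈ ([10, 12, 32, 45, 120] : List ℕ), ∀ h ∈ Nat.divisors 15840,
    ∀ j ∈ List.range 23, h ≤ 140 → 10 ∣ h →
    ((f : ℤ) - ((j : ℤ) - 11)) % 4 = 0 → ((j : ℤ) - 11) * ((j : ℤ) - 11) < (f : ℤ) * f →
    (((15840 / h : ℕ) : ℤ) * ((j : ℤ) - 11)) % (f : ℤ) = 0 →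
    (f = 45 ∧ (j : ℤ) - 11 = 5) ∨ (f ≠ 45 ∧ ((j : ℤ) - 11) % 4 = 0) := by
  decide +kernel

omit [IsSimpleGroup G] in
theorem sum_sq_le {t : G} (ht : t * t = 1) (B : Finset (IrrCharacter G)) :
    ∑ χ ∈ B, intVal χ ht ^ 2 ≤ (Nat.card (centralizer ({t} : Set G)) : ℤ) := by
  rw [← sum_intVal_sq ht]
  exact Finset.sum_le_sum_of_subset_of_nonneg (Finset.subset_univ B) fun χ _ _ => sq_nonneg _

include hna in
set_option maxHeartbeats 1000000 in
theorem no_31680 [Fact (Nat.Prime 11)] (P : Sylow 11 G) (hP : Nat.card (P : Subgroup G) = 11)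
    (hn : Nat.card (Sylow 11 G) = 144) (hC : Nat.card (centralizer ((P : Subgroup G) : Set G)) = 22)
    (hN : Nat.card (normalizer ((P : Subgroup G) : Set G)) = 220) : False := by
  classical
  haveI : Fact (Nat.Prime 2) := ⟨Nat.prime_two⟩
  have he : (centralizer ((P : Subgroup G) : Set G)).relIndex (normalizer ((P : Subgroup G) : Set G)) = 10 := by
    have := CfsgLib.SmallGroups.Order459648.card_centralizer_mul_relIndex ((P : Subgroup G))
    rw [hC, hN] at this
    omega
  have hG : Nat.card G = 31680 := by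
    rw [← CfsgLib.SmallGroups.card_sylow_mul_card_normalizer P, hn, hN]
  obtain ⟨B, σ, h1B, hσ1, hBc, hσ, hrel, hcong⟩ := block_ten P hP he
  obtain ⟨R, hRC, hRc, hRN⟩ := exists_normalizer_eq hna P hP hn (q := 2) (a := 1) (r := 1) Nat.prime_two
    (by norm_num) (by norm_num) (Or.inl rfl) (by rw [hC]; norm_num)
  rw [hN] at hRN
  obtain ⟨⟨y, hyR⟩, hy⟩ := exists_prime_orderOf_dvd_card' (G := R) 2 (by rw [hRc]; norm_num)
  rw [Subgroup.orderOf_mk] at hy
  have hyy : y * y = 1 := by rw [← sq, ← hy]; exact pow_orderOf_eq_one y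
  have hRy : R = zpowers y := (eq_of_le_of_card_ge (zpowers_le.mpr hyR)
    (by rw [hRc, Nat.card_zpowers, hy]; norm_num)).symm
  have hh : Nat.card (centralizer ({y} : Set G)) ≤ 220 := by
    rw [← hRN]
    refine Nat.le_of_dvd Nat.card_pos (card_dvd_of_le fun g hg => ?_)
    rw [hRy, Subgroup.mem_normalizer_iff_map_conj_eq, MonoidHom.map_zpowers]
    show zpowers (g * y * g⁻¹) = zpowers y
    rw [show g * y = y * g from mem_centralizer_singleton_iff.mp hg, mul_inv_cancel_right]
  set w : IrrCharacter G → ℤ := fun χ => σ χ * intVal χ hyy with hw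
  have hsum : ∑ χ ∈ B, w χ = 0 := by
    have h := hrel y (by rw [hy]; norm_num)
    simp only [intVal_spec _ hyy] at h
    exact_mod_cast h
  have hsq : ∑ χ ∈ B, w χ ^ 2 ≤ 220 := by
    have h := (sum_sq_le hyy B).trans (Nat.cast_le.mpr hh)
    refine le_trans (le_of_eq (Finset.sum_congr rfl fun χ hχ => ?_)) h
    rcases (hσ χ hχ).1 with e | e <;> rw [hw] <;> simp [e]
  have hmod : ∀ χ ∈ B, w χ % 11 = 1 := fun χ hχ => by
    have := hcong y (hRC hyR) hyy hy χ hχ
    rcases (hσ χ hχ).1 with e | e <;> rw [e] at this <;> simp only [hw, e] <;> omega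
  have hval : ∀ χ ∈ B, w χ = 1 ∨ w χ = -10 ∨ w χ = 12 := fun χ hχ => by
    have h1 : w χ ^ 2 ≤ 220 :=
      (Finset.single_le_sum (f := fun χ => w χ ^ 2) (fun _ _ => sq_nonneg _) hχ).trans hsq
    have h2 := hmod χ hχ
    have : -15 < w χ ∧ w χ < 15 := ⟨by nlinarith, by nlinarith⟩
    omega
  set A := B.filter fun χ => w χ = -10 with hA
  set A' := B.filter fun χ => w χ = 12 with hA'
  have e1 : ∑ χ ∈ B, w χ = 11 - 11 * (A.card : ℤ) + 11 * (A'.card : ℤ) := by
    rw [Finset.sum_congr rfl (g := fun χ => 1 - 11 * (if w χ = -10 then (1 : ℤ) else 0) +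
      11 * (if w χ = 12 then (1 : ℤ) else 0)) fun χ hχ => ?_]
    · rw [Finset.sum_add_distrib, Finset.sum_sub_distrib, ← Finset.mul_sum, ← Finset.mul_sum,
        Finset.sum_boole, Finset.sum_boole, Finset.sum_const, hBc]
      simp [hA, hA']
    · rcases hval χ hχ with e | e | e <;> rw [e] <;> norm_num
  have e2 : ∑ χ ∈ B, w χ ^ 2 = 11 + 99 * (A.card : ℤ) + 143 * (A'.card : ℤ) := by
    rw [Finset.sum_congr rfl (g := fun χ => 1 + 99 * (if w χ = -10 then (1 : ℤ) else 0) +
      143 * (if w χ = 12 then (1 : ℤ) else 0)) fun χ hχ => ?_]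
    · rw [Finset.sum_add_distrib, Finset.sum_add_distrib, ← Finset.mul_sum, ← Finset.mul_sum,
        Finset.sum_boole, Finset.sum_boole, Finset.sum_const, hBc]
      simp [hA, hA']
    · rcases hval χ hχ with e | e | e <;> rw [e] <;> norm_num
  rw [hsum] at e1
  rw [e2] at hsq
  obtain ⟨ψ, hψ⟩ := Finset.card_eq_one.mp (show A.card = 1 by omega)
  have hA0 : A' = ∅ := Finset.card_eq_zero.mp (by omega)
  have hψB : ψ ∈ B ∧ w ψ = -10 := by
    have : ψ ∈ A := by rw [hψ]; exact Finset.mem_singleton_self _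
    simpa [hA] using this
  have hdeg : ∀ χ ∈ B, deg χ * deg χ ≤ 31680 ∧ deg χ ∣ 31680 := fun χ _ =>
    ⟨hG ▸ deg_sq_le_card χ, hG ▸ CfsgLib.Char.degree_dvd_card χ.2 (deg_spec χ)⟩
  have hψone : ψ ≠ CfsgLib.Char.irrOne := fun h => by
    have := hψB.2
    rw [h] at this
    simp only [hw, hσ1, intVal_irrOne] at this
    norm_num at this
  have hf : ∀ χ ∈ (B.erase ψ).erase CfsgLib.Char.irrOne, σ χ * (deg χ : ℤ) = 45 := by
    intro χ hχ
    simp only [Finset.mem_erase] at hχ
    obtain ⟨hne, hneψ, hχB⟩ := hχ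
    have hw1 : w χ = 1 := by
      rcases hval χ hχB with e | e | e
      · exact e
      · exact absurd (show χ ∈ A from Finset.mem_filter.mpr ⟨hχB, e⟩) (by rw [hψ]; simpa using hneψ)
      · exact absurd (show χ ∈ A' from Finset.mem_filter.mpr ⟨hχB, e⟩) (by rw [hA0]; simp)
    have h4 := CfsgLib.SmallGroups.PrimeRational.four_dvd_deg_sub (linear_trivial hna) χ hyy
    obtain ⟨hs, hd⟩ := hσ χ hχB
    obtain ⟨hd2, hdv⟩ := hdeg χ hχB
    have h2 := two_le_deg hna hne
    have hlt : deg χ < 178 := by nlinarith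
    obtain ⟨k1, k2⟩ := degree_31680 _ (List.mem_range.mpr hlt) h2 hdv
    rcases hs with e | e <;> simp only [hw, e] at hw1 <;> rw [e] at hd ⊢
    · have := k1 (by omega)
      omega
    · exact absurd (by omega) k2
  have hrel1 := hrel 1 (by rw [orderOf_one]; norm_num)
  simp only [deg_spec] at hrel1
  have h0 : ∑ χ ∈ B, σ χ * (deg χ : ℤ) = 0 := by exact_mod_cast hrel1
  rw [← Finset.add_sum_erase _ _ hψB.1, ← Finset.add_sum_erase _ _
    (Finset.mem_erase.mpr ⟨hψone.symm, h1B⟩), Finset.sum_congr rfl hf, Finset.sum_const,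
    Finset.card_erase_of_mem (Finset.mem_erase.mpr ⟨hψone.symm, h1B⟩), Finset.card_erase_of_mem hψB.1,
    hBc, hσ1, deg_irrOne] at h0
  norm_num at h0
  have := (hdeg ψ hψB.1).1
  rcases (hσ ψ hψB.1).1 with e | e <;> rw [e] at h0 <;> nlinarith

include hna in
set_option maxHeartbeats 1000000 in
theorem no_15840 [Fact (Nat.Prime 11)] (P : Sylow 11 G) (hP : Nat.card (P : Subgroup G) = 11)
    (hn : Nat.card (Sylow 11 G) = 144) (hC : Nat.card (centralizer ((P : Subgroup G) : Set G)) = 11)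
    (hN : Nat.card (normalizer ((P : Subgroup G) : Set G)) = 110) : False := by
  classical
  have he : (centralizer ((P : Subgroup G) : Set G)).relIndex (normalizer ((P : Subgroup G) : Set G)) = 10 := by
    have := CfsgLib.SmallGroups.Order459648.card_centralizer_mul_relIndex ((P : Subgroup G))
    rw [hC, hN] at this
    omega
  have hG : Nat.card G = 15840 := by
    rw [← CfsgLib.SmallGroups.card_sylow_mul_card_normalizer P, hn, hN]
  obtain ⟨B, σ, h1B, hσ1, hBc, hσ, hrel, -⟩ := block_ten P hP he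
  obtain ⟨t, ht, h10, h140⟩ := inverting_centralizer hna P hP hn hC hN
  set h := Nat.card (centralizer ({t} : Set G)) with hh
  have hhd : h ∣ 15840 := hG ▸ Subgroup.card_subgroup_dvd_card _
  have htt : t * t = 1 := by rw [← sq, ← ht]; exact pow_orderOf_eq_one t
  have ht1 : t ≠ 1 := fun e => by rw [e, orderOf_one] at ht; norm_num at ht
  have hsq := sum_sq_le htt B
  rw [← hh] at hsq
  set w : IrrCharacter G → ℤ := fun χ => σ χ * intVal χ htt with hw
  have hwsq : ∀ χ ∈ B, w χ ^ 2 = intVal χ htt ^ 2 := fun χ hχ => by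
    rcases (hσ χ hχ).1 with e | e <;> simp [hw, e]
  rw [← Finset.sum_congr rfl hwsq] at hsq
  have hsum : ∑ χ ∈ B, w χ = 0 := by
    have h := hrel t (by rw [ht]; norm_num)
    simp only [intVal_spec _ htt] at h
    exact_mod_cast h
  have hcases : ∀ χ ∈ B.erase CfsgLib.Char.irrOne,
      (deg χ = 45 ∧ w χ = 5) ∨ (deg χ ≠ 45 ∧ w χ % 4 = 0) := by
    intro χ hχ
    obtain ⟨hne, hχB⟩ := Finset.mem_erase.mp hχ
    obtain ⟨hs, hd⟩ := hσ χ hχB
    have h2 := two_le_deg hna hne
    have hd2 : deg χ * deg χ ≤ 15840 := hG ▸ deg_sq_le_card χ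
    have hdv : deg χ ∣ 15840 := hG ▸ CfsgLib.Char.degree_dvd_card χ.2 (deg_spec χ)
    have hlt : deg χ < 126 := by nlinarith
    have hf := degree_15840 _ (List.mem_range.mpr hlt) h2 hdv (by
      rcases hs with e | e <;> rw [e] at hd <;> omega)
    have h4 := CfsgLib.SmallGroups.PrimeRational.four_dvd_deg_sub (linear_trivial hna) χ htt
    have hvlt := CfsgLib.SmallGroups.SignedData.intVal_sq_lt hna χ hne htt ht1
    have hidx := CfsgLib.MTwelveUnique.deg_dvd_index_mul χ (intVal_spec χ htt) hh.symm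
    rw [hG] at hidx
    have hv2 : intVal χ htt ^ 2 ≤ 139 := by
      have h1 : w χ ^ 2 + w CfsgLib.Char.irrOne ^ 2 ≤ ∑ ψ ∈ B, w ψ ^ 2 := by
        rw [← Finset.sum_pair hne (f := fun ψ => w ψ ^ 2)]
        refine Finset.sum_le_sum_of_subset_of_nonneg ?_ fun _ _ _ => sq_nonneg _
        intro ψ hψ
        rcases Finset.mem_insert.mp hψ with rfl | hψ
        · exact hχB
        · rw [Finset.mem_singleton.mp hψ]; exact h1B
      rw [hwsq χ hχB, show w CfsgLib.Char.irrOne = 1 by simp [hw, hσ1, intVal_irrOne]] at h1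
      have : (h : ℤ) ≤ 140 := by exact_mod_cast h140
      linarith
    have hb : -12 < intVal χ htt ∧ intVal χ htt < 12 := ⟨by nlinarith, by nlinarith⟩
    obtain ⟨j, hj⟩ : ∃ j : ℕ, (j : ℤ) - 11 = intVal χ htt := ⟨(intVal χ htt + 11).toNat, by omega⟩
    rw [← hj] at h4 hvlt hidx hb
    have := value_15840 _ hf h (Nat.mem_divisors.mpr ⟨hhd, by norm_num⟩) j (List.mem_range.mpr (by omega))
      h140 h10 (by omega) hvlt hidx
    rw [hj] at this
    rcases this with ⟨h45, h5⟩ | ⟨h45, h5⟩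
    · refine Or.inl ⟨h45, ?_⟩
      rcases hs with e | e
      · simp [hw, e, h5]
      · rw [e, h45] at hd; norm_num at hd
    · refine Or.inr ⟨h45, ?_⟩
      rcases hs with e | e <;> simp only [hw, e] <;> omega
  set D := (B.erase CfsgLib.Char.irrOne).filter fun χ => deg χ = 45 with hD
  set R := (B.erase CfsgLib.Char.irrOne).filter fun χ => ¬ deg χ = 45 with hR
  have hw1 : w CfsgLib.Char.irrOne = 1 := by simp [hw, hσ1, intVal_irrOne]
  have hDw : ∀ χ ∈ D, w χ = 5 := fun χ hχ => by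
    obtain ⟨hm, h45⟩ := Finset.mem_filter.mp hχ
    exact ((hcases χ hm).resolve_right fun h => h.1 h45).2
  have hRw : ∀ χ ∈ R, (4 : ℤ) ∣ w χ := fun χ hχ => by
    obtain ⟨hm, h45⟩ := Finset.mem_filter.mp hχ
    exact Int.dvd_of_emod_eq_zero ((hcases χ hm).resolve_left fun h => h45 h.1).2
  rw [← Finset.add_sum_erase _ _ h1B, ← Finset.sum_filter_add_sum_filter_not (B.erase _)
    (fun χ => deg χ = 45), ← hD, ← hR, hw1, Finset.sum_congr rfl hDw, Finset.sum_const, nsmul_eq_mul] at hsum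
  rw [← Finset.add_sum_erase _ _ h1B, ← Finset.sum_filter_add_sum_filter_not (B.erase _)
    (fun χ => deg χ = 45), ← hD, ← hR, hw1,
    Finset.sum_congr rfl (g := fun _ => (25 : ℤ)) (fun χ hχ => by rw [hDw χ hχ]; norm_num),
    Finset.sum_const, nsmul_eq_mul] at hsq
  have hbound : -4 * ∑ χ ∈ R, w χ ≤ ∑ χ ∈ R, w χ ^ 2 := by
    rw [Finset.mul_sum]
    refine Finset.sum_le_sum fun χ hχ => ?_
    obtain ⟨k, hk⟩ := hRw χ hχ
    rw [hk]
    have : 0 ≤ k * (k + 1) := by
      rcases le_or_gt 0 k with h | h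
      · exact mul_nonneg h (by omega)
      · exact mul_nonneg_of_nonpos_of_nonpos h.le (by omega)
    nlinarith
  obtain ⟨k, hk⟩ := Finset.dvd_sum hRw
  rw [hk] at hsum hbound
  have h140' : (h : ℤ) ≤ 140 := by exact_mod_cast h140
  have : h = 140 := by omega
  rw [this] at hhd
  norm_num at hhd

include hna in
set_option maxHeartbeats 1000000 in
/-- The possible orders. -/
theorem order_cases (hd : Nat.card G ∣ 95040) (h11 : 11 ∣ Nat.card G) :
    Nat.card G = 660 ∨ Nat.card G = 7920 ∨ Nat.card G = 95040 := by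
  haveI : Fact (Nat.Prime 11) := ⟨by norm_num⟩
  obtain ⟨m, hm⟩ := h11
  have hm8640 : m ∣ 8640 := (Nat.mul_dvd_mul_iff_left (by norm_num : 0 < 11)).mp (hm ▸ hd)
  have hm11 : ¬ 11 ∣ m := fun h => by have := h.trans hm8640; norm_num at this
  obtain ⟨P⟩ : Nonempty (Sylow 11 G) := inferInstance
  have hG' : Nat.card G = 11 ^ 1 * m := by rw [hm, pow_one]
  have hP : Nat.card (P : Subgroup G) = 11 := by
    simpa using CfsgLib.SmallGroups.card_sylow_eq hG' hm11 P
  have hdvd : 11 ∣ Nat.card G := hm ▸ dvd_mul_right 11 m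
  have hn1 := CfsgLib.SmallGroups.mod_eq_one_card_sylow (p := 11) (G := G)
  have hne1 := CfsgLib.SmallGroups.card_sylow_ne_one hna hdvd
  have hnd : Nat.card (Sylow 11 G) ∣ 8640 :=
    (CfsgLib.SmallGroups.card_sylow_dvd_of_card_eq hG' hm11).trans hm8640
  have hN := CfsgLib.SmallGroups.card_sylow_mul_card_normalizer P
  have hCN := CfsgLib.SmallGroups.Order459648.card_centralizer_mul_relIndex ((P : Subgroup G))
  have he10 := relIndex_dvd P hP
  have he1 : (centralizer ((P : Subgroup G) : Set G)).relIndex (normalizer ((P : Subgroup G) : Set G)) ≠ 1 :=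
    fun h => CfsgLib.SmallGroups.not_normalizer_le_centralizer hna hdvd P (Subgroup.relIndex_eq_one.mp h)
  have he2 : (centralizer ((P : Subgroup G) : Set G)).relIndex (normalizer ((P : Subgroup G) : Set G)) ≠ 2 :=
    relIndex_ne_two hna hd P hP
  obtain ⟨c, hc⟩ : 11 ∣ Nat.card (centralizer ((P : Subgroup G) : Set G)) :=
    (dvd_of_eq hP.symm).trans (card_dvd_of_le (le_centralizer P hP))
  set e := (centralizer ((P : Subgroup G) : Set G)).relIndex (normalizer ((P : Subgroup G) : Set G))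
  have he : e = 5 ∨ e = 10 := by
    have key : ∀ k ∈ Nat.divisors 10, k ≠ 1 → k ≠ 2 → k = 5 ∨ k = 10 := by decide
    exact key e (Nat.mem_divisors.mpr ⟨he10, by norm_num⟩) he1 he2
  have hGeq : Nat.card G = Nat.card (Sylow 11 G) * (11 * c * e) := by rw [← hN, ← hCN, hc]
  have hprod : Nat.card (Sylow 11 G) * (c * e) ∣ 8640 := by
    refine (Nat.mul_dvd_mul_iff_left (by norm_num : 0 < 11)).mp ?_
    rw [show 11 * (Nat.card (Sylow 11 G) * (c * e)) = Nat.card G by rw [hGeq]; ring]
    exact hd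
  have hN' : Nat.card (normalizer ((P : Subgroup G) : Set G)) = 11 * c * e := by rw [← hCN, hc]
  have key : ∀ k ∈ Nat.divisors 8640, k % 11 = 1 →
      k = 1 ∨ k = 12 ∨ k = 45 ∨ k = 144 ∨ k = 320 ∨ k = 540 ∨ k = 1728 := by decide +kernel
  have hfive : 5 ∣ c * e := by
    rcases he with h | h <;> rw [h]
    · exact dvd_mul_left 5 c
    · exact Dvd.dvd.mul_left (by norm_num) c
  rcases key _ (Nat.mem_divisors.mpr ⟨hnd, by norm_num⟩) hn1 with h | h | h | h | h | h | h <;>
    rw [h] at hprod hGeq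
  · exact absurd h hne1
  · have hi : (normalizer ((P : Subgroup G) : Set G)).index = 12 :=
      (CfsgLib.SmallGroups.card_sylow_eq_index P).symm.trans h
    have h1 := centralizer_le_of_index P hP _ hi
    have h2 : 0 < Nat.card (centralizer ((P : Subgroup G) : Set G)) := Nat.card_pos
    rw [hc] at h1 h2
    obtain rfl : c = 1 := by omega
    rcases he with e5 | e10
    · left; rw [hGeq, e5]
    · exact (no_index_twelve hna P hP h hc (by rw [hN', e10])).elim
  · exfalso
    have := (Nat.mul_dvd_mul_left 45 hfive).trans hprod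
    norm_num at this
  · have hc60 : c * e ∣ 60 := (Nat.mul_dvd_mul_iff_left (by norm_num : 0 < 144)).mp hprod
    rcases he with e5 | e5 <;> rw [e5] at hc60 hGeq hN'
    · have hc12 : c ∣ 12 := (Nat.mul_dvd_mul_iff_right (by norm_num : 0 < 5)).mp hc60
      have key : ∀ k ∈ Nat.divisors 12, k = 1 ∨ k = 2 ∨ k = 3 ∨ k = 4 ∨ k = 6 ∨ k = 12 := by decide
      rcases key c (Nat.mem_divisors.mpr ⟨hc12, by norm_num⟩) with rfl | rfl | rfl | rfl | rfl | rfl
      · right; left; rw [hGeq]
      · exact (no_growth hna P hP h (q := 2) (a := 1) (r := 1) Nat.prime_two (by norm_num) (by norm_num)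
          (Or.inl rfl) (by rw [hc]; norm_num) (by rw [hN']; norm_num) (by rw [hN']; norm_num)).elim
      · exact (no_growth hna P hP h (q := 3) (a := 1) (r := 1) Nat.prime_three (by norm_num) (by norm_num)
          (Or.inl rfl) (by rw [hc]; norm_num) (by rw [hN']; norm_num) (by rw [hN']; norm_num)).elim
      · exact (no_growth hna P hP h (q := 2) (a := 2) (r := 1) Nat.prime_two (by norm_num) (by norm_num)
          (Or.inl rfl) (by rw [hc]; norm_num) (by rw [hN']; norm_num) (by rw [hN']; norm_num)).elim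
      · exact (no_growth hna P hP h (q := 3) (a := 1) (r := 2) Nat.prime_three (by norm_num) (by norm_num)
          (Or.inr ⟨rfl, rfl⟩) (by rw [hc]; norm_num) (by rw [hN']; norm_num) (by rw [hN']; norm_num)).elim
      · right; right; rw [hGeq]
    · have hc6 : c ∣ 6 := (Nat.mul_dvd_mul_iff_right (by norm_num : 0 < 10)).mp hc60
      have key : ∀ k ∈ Nat.divisors 6, k = 1 ∨ k = 2 ∨ k = 3 ∨ k = 6 := by decide
      rcases key c (Nat.mem_divisors.mpr ⟨hc6, by norm_num⟩) with rfl | rfl | rfl | rfl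
      · exact (no_15840 hna P hP h hc hN').elim
      · exact (no_31680 hna P hP h hc hN').elim
      · exact (no_growth hna P hP h (q := 3) (a := 1) (r := 1) Nat.prime_three (by norm_num) (by norm_num)
          (Or.inl rfl) (by rw [hc]; norm_num) (by rw [hN']; norm_num) (by rw [hN']; norm_num)).elim
      · right; right; rw [hGeq]
  · exfalso
    have := (Nat.mul_dvd_mul_left 320 hfive).trans hprod
    norm_num at this
  · exfalso
    have := (Nat.mul_dvd_mul_left 540 hfive).trans hprod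
    norm_num at this
  · have hc5 : c * e ∣ 5 := (Nat.mul_dvd_mul_iff_left (by norm_num : 0 < 1728)).mp hprod
    have := Nat.le_of_dvd (by norm_num) hc5
    have hcpos : 0 < c := by
      have h2 : 0 < Nat.card (centralizer ((P : Subgroup G) : Set G)) := Nat.card_pos
      omega
    right; right
    rcases he with e5 | e5 <;> rw [e5] at this hGeq
    · obtain rfl : c = 1 := by omega
      rw [hGeq]
    · omega

end CfsgLib.MTwelveNSE.Small
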