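import Cfsg.Agent.Lib.MTwelveNSE.Core
import Cfsg.Agent.Lib.MTwelveNSE.SmallCases
import Cfsg.Agent.Lib.MTwelveUnique.Main
import Cfsg.Agent.Lib.MTwelveUnique.Degrees
import Cfsg.Agent.Lib.MElevenUnique.Main
import Cfsg.Agent.Lib.MathieuOut.MultEleven
import Cfsg.Agent.Lib.MathieuOut.Groups
import Cfsg.Agent.Lib.Char.Product
import Cfsg.Agent.Lib.Char.Ito
import Cfsg.Agent.Lib.CharNormal.TwoDegrees
import Cfsg.Agent.Lib.SmallGroups.MElevenDegrees.Main
import Cfsg.Agent.Lib.Golay.Dodecad
import Cfsg.Prelude.Def_DegreeGraph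

/-!
Groups with the order and the character degree graph of the Mathieu group of degree twelve.
-/

set_option autoImplicit false

noncomputable section

namespace CfsgLib.MTwelveNSE.Graph

open Subgroup CfsgLib.InvolChar Cfsg
attribute [local instance] Classical.propDecidable

theorem m12_adj : (degreeGraph ↥Spor.M12).Adj 5 11 ∧ (degreeGraph ↥Spor.M12).Adj 3 11 := by
  classical
  haveI := CfsgLib.Golay.M12_simple
  haveI := Fintype.ofFinite ↥Spor.M12
  have hG := CfsgLib.Golay.card_M12
  obtain ⟨B⟩ := CfsgLib.MTwelveUnique.exists_block hG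
  obtain ⟨T⟩ := CfsgLib.MTwelveUnique.exists_ten hG B
  obtain ⟨D⟩ := CfsgLib.MTwelveUnique.exists_table hG T
  have hd : ∀ i, deg (D.e i) ∈ charDegrees ↥Spor.M12 := fun i =>
    ⟨D.e i, CfsgLib.SmallGroups.BrauerFew.deg_eq_charDegree _⟩
  obtain ⟨-, -, h55, -, -, h66, -, -⟩ := D.deg_e
  refine ⟨⟨by norm_num, by norm_num, by norm_num, _, hd 2, ?_⟩,
    ⟨by norm_num, by norm_num, by norm_num, _, hd 5, ?_⟩⟩
  · rw [h55]
  · rw [h66]; norm_num

variable {G : Type*} [Group G] [Fintype G]

/-- A degree of a group is realised by an irreducible character. -/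
theorem exists_irr {d : ℕ} (h : d ∈ charDegrees G) : ∃ χ : IrrCharacter G, deg χ = d := by
  obtain ⟨χ, rfl⟩ := h
  exact ⟨χ, (CfsgLib.SmallGroups.BrauerFew.deg_eq_charDegree χ).symm⟩

/-- A group of order twelve with a character of degree three is alternating. -/
theorem alternating_four {C : Type*} [Group C] [Fintype C] (hC : Nat.card C = 12) {φ : C → ℂ}
    (hφ : IsIrrCharacter C φ) (h3 : φ 1 = 3) : Nonempty (C ≃* alternatingGroup (Fin 4)) := by
  classical
  haveI : Fact (Nat.Prime 3) := ⟨Nat.prime_three⟩
  have hG' : Nat.card C = 3 ^ 1 * 4 := by rw [hC]; norm_num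
  have hT : ∀ T : Sylow 3 C, Nat.card (T : Subgroup C) = 3 := fun T => by
    simpa using CfsgLib.SmallGroups.card_sylow_eq hG' (by norm_num) T
  have hn := CfsgLib.SmallGroups.card_sylow_dvd_of_card_eq hG' (by norm_num)
  have hn1 := CfsgLib.SmallGroups.mod_eq_one_card_sylow (p := 3) (G := C)
  have key : ∀ k ∈ Nat.divisors 4, k % 3 = 1 → k = 1 ∨ k = 4 := by decide
  rcases key _ (Nat.mem_divisors.mpr ⟨hn, by norm_num⟩) hn1 with h | h
  · exfalso
    obtain ⟨T⟩ : Nonempty (Sylow 3 C) := inferInstance
    haveI := CfsgLib.SmallGroups.sylow_normal_of_card_eq_one h T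
    haveI := isCyclic_of_prime_card (hT T)
    have hd := CfsgLib.Char.degree_dvd_index_abelian_normal (T : Subgroup C) (fun a ha b hb =>
      congrArg Subtype.val (IsCyclic.commGroup.mul_comm (⟨a, ha⟩ : (T : Subgroup C)) ⟨b, hb⟩)) hφ
      (c := 3) (by exact_mod_cast h3)
    have hm := (T : Subgroup C).card_mul_index
    rw [hT T, hC] at hm
    omega
  · haveI := Fintype.ofFinite (Sylow 3 C)
    let f := MulAction.toPermHom C (Sylow 3 C)
    have hker : f.ker = ⊥ := by
      have hmem : ∀ g ∈ f.ker, ∀ T : Sylow 3 C, g ∈ normalizer ((T : Subgroup C) : Set C) := by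
        intro g hg T
        exact Sylow.smul_eq_iff_mem_normalizer.mp (congrArg (fun σ : Equiv.Perm _ => σ T) (MonoidHom.mem_ker.mp hg))
      have hNT : ∀ T : Sylow 3 C, normalizer ((T : Subgroup C) : Set C) = (T : Subgroup C) := fun T => by
        refine (eq_of_le_of_card_ge le_normalizer ?_).symm
        have := CfsgLib.SmallGroups.card_sylow_mul_card_normalizer T
        rw [h, hC] at this
        rw [hT T]; omega
      rw [eq_bot_iff]
      intro g hg
      by_contra hg1
      rw [Subgroup.mem_bot] at hg1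
      obtain ⟨T⟩ : Nonempty (Sylow 3 C) := inferInstance
      haveI : Subsingleton (Sylow 3 C) := ⟨fun A B => by
        have hz : ∀ U : Sylow 3 C, (U : Subgroup C) = zpowers g := fun U => by
          have hgU : g ∈ (U : Subgroup C) := hNT U ▸ hmem g hg U
          refine (eq_of_le_of_card_ge (zpowers_le.mpr hgU) ?_).symm
          have hd := Subgroup.orderOf_dvd_natCard (s := (U : Subgroup C)) hgU
          rw [hT U] at hd ⊢
          rw [Nat.card_zpowers]
          rcases (Nat.dvd_prime Nat.prime_three).mp hd with e | e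
          · exact absurd (orderOf_eq_one_iff.mp e) hg1
          · omega
        exact Sylow.ext ((hz A).trans (hz B).symm)⟩
      rw [Nat.card_unique] at h
      norm_num at h
    have hinj : Function.Injective f := (MonoidHom.ker_eq_bot_iff f).mp hker
    let e4 : Sylow 3 C ≃ Fin 4 := Finite.equivFinOfCardEq h
    let f4 : C →* Equiv.Perm (Fin 4) := (e4.permCongrHom.toMonoidHom).comp f
    have hinj4 : Function.Injective f4 := e4.permCongrHom.injective.comp hinj
    have hr : Nat.card f4.range = 12 := by
      rw [← hC]; exact (Nat.card_congr (MonoidHom.ofInjective hinj4).toEquiv).symm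
    have hi : f4.range.index = 2 := by
      have := f4.range.card_mul_index
      rw [hr, Nat.card_perm, Nat.card_fin] at this
      norm_num [Nat.factorial] at this
      omega
    exact ⟨(MonoidHom.ofInjective hinj4).trans
      (MulEquiv.subgroupCongr (Equiv.Perm.eq_alternatingGroup_of_index_eq_two hi))⟩

set_option maxHeartbeats 1000000 in
/-- The trivial multiplier of the Mathieu group of degree eleven. -/
theorem center_bot {L : Type*} [Group L] [Finite L] (hperf : commutator L = ⊤)
    (e : L ⧸ center L ≃* ↥Spor.M11) : center L = ⊥ := by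
  classical
  haveI := Fintype.ofFinite L
  let φ : L →* Equiv.Perm (Fin (Fintype.card L)) :=
    ((Fintype.equivFin L).permCongrHom.toMonoidHom).comp (MulAction.toPermHom L L)
  have hφ : Function.Injective φ :=
    (Fintype.equivFin L).permCongrHom.injective.comp MulAction.toPerm_injective
  let eL : L ≃* φ.range := MonoidHom.ofInjective hφ
  let σ0 : L →* ↥Spor.M11 := e.toMonoidHom.comp (QuotientGroup.mk' (center L))
  let σ : φ.range →* ↥Spor.M11 := σ0.comp eL.symm.toMonoidHom
  have hσ0 : σ0.ker = center L := by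
    ext a
    simp [σ0, MonoidHom.mem_ker, QuotientGroup.eq_one_iff]
  have hker : ∀ a, a ∈ σ.ker ↔ eL.symm a ∈ center L := fun a => by
    rw [← hσ0, MonoidHom.mem_ker, MonoidHom.mem_ker]; rfl
  have hstem : IsStemExtension σ := by
    refine ⟨fun m => ?_, fun a ha => ?_, fun a _ => ?_⟩
    · obtain ⟨q, rfl⟩ := e.surjective m
      obtain ⟨l, rfl⟩ := QuotientGroup.mk_surjective q
      exact ⟨eL l, by simp [σ, σ0]⟩
    · refine mem_center_iff.mpr fun b => eL.symm.injective ?_
      rw [map_mul, map_mul]
      exact mem_center_iff.mp ((hker a).mp ha) _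
    · have : (commutator L).map eL.toMonoidHom = commutator φ.range := by
        rw [map_commutator_eq]
        simp [commutator_def, MonoidHom.range_eq_top_of_surjective _ eL.surjective]
      rw [← this, hperf]
      exact ⟨eL.symm a, mem_top _, eL.apply_symm_apply a⟩
  obtain ⟨π, hπ⟩ := CfsgLib.MathieuOut.Mult.m11_trivial_multiplier.2 φ.range σ hstem
  rw [eq_bot_iff]
  intro a ha
  obtain ⟨u, hu⟩ := hπ ⟨eL a, (hker _).mpr (by rw [MulEquiv.symm_apply_apply]; exact ha)⟩
  have hu1 : u = 1 := Subsingleton.elim _ _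
  rw [hu1, map_one] at hu
  have : eL a = 1 := (congrArg Subtype.val hu).symm
  rw [Subgroup.mem_bot]
  exact eL.injective (this.trans (map_one eL).symm)

/-- The automorphisms of the Mathieu group of degree eleven are inner. -/
theorem exists_conj {L : Type*} [Group L] (e : L ≃* ↥Spor.M11) (f : MulAut L) :
    ∃ l : L, ∀ x, f x = l * x * l⁻¹ := by
  haveI : Finite (MulAut ↥Spor.M11) := Finite.of_injective (fun f : MulAut ↥Spor.M11 => (f : ↥Spor.M11 → ↥Spor.M11))
    fun a b h => MulEquiv.ext fun x => congrFun h x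
  let g : MulAut ↥Spor.M11 := (e.symm.trans f).trans e
  have h1 : (Inn ↥Spor.M11).index = 1 := le_antisymm CfsgLib.MathieuOut.out_M11_le
    (Nat.one_le_iff_ne_zero.mpr (Subgroup.index_ne_zero_of_finite))
  obtain ⟨m, hm⟩ : g ∈ Inn ↥Spor.M11 := (Subgroup.index_eq_one.mp h1) ▸ mem_top g
  refine ⟨e.symm m, fun x => e.injective ?_⟩
  have := DFunLike.congr_fun hm (e x)
  simp [g] at this
  simp [← this]

theorem eleven_degrees {L : Type*} [Group L] [Fintype L] (e : L ≃* ↥Spor.M11) (φ : IrrCharacter L)
    (h : 33 ∣ deg φ) : False := by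
  haveI := CfsgLib.Golay.M11_simple
  haveI : IsSimpleGroup L := MulEquiv.isSimpleGroup e
  have hL : Nat.card L = 7920 := by rw [Nat.card_congr e.toEquiv]; exact CfsgLib.Golay.card_M11
  have hm := (CfsgLib.SmallGroups.MElevenDegrees.main hL).2 (deg φ)
  haveI : Nonempty {χ : IrrCharacter L // charDegree (χ : L → ℂ) = deg φ} :=
    ⟨⟨φ, CfsgLib.SmallGroups.BrauerFew.deg_eq_charDegree φ⟩⟩
  have hp : 0 < Nat.card {χ : IrrCharacter L // charDegree (χ : L → ℂ) = deg φ} := Nat.card_pos
  rw [hm] at hp
  have h0 := deg_pos φ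
  split_ifs at hp <;> omega

set_option maxHeartbeats 2000000 in
/-- The main theorem. -/
theorem main (hcard : Nat.card G = 95040)
    (h5 : (degreeGraph G).Adj 5 11) (h3 : (degreeGraph G).Adj 3 11) :
    Nonempty (G ≃* ↥Spor.M12) ∨ Nonempty (G ≃* alternatingGroup (Fin 4) × ↥Spor.M11) := by
  classical
  haveI : Fact (Nat.Prime 11) := ⟨by norm_num⟩
  obtain ⟨-, -, -, d, hd, hd55⟩ := h5
  obtain ⟨-, -, -, d', hd', hd33⟩ := h3
  obtain ⟨χ, rfl⟩ := exists_irr hd
  obtain ⟨ψ, rfl⟩ := exists_irr hd'
  obtain ⟨P⟩ : Nonempty (Sylow 11 G) := inferInstance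
  have hP : Nat.card (P : Subgroup G) = 11 := by
    simpa using CfsgLib.SmallGroups.card_sylow_eq (show Nat.card G = 11 ^ 1 * 8640 by rw [hcard]; norm_num)
      (by norm_num) P
  have hPn := Core.not_normal hcard χ.2 (deg_spec χ) ((by norm_num : 11 ∣ 5 * 11).trans hd55) P hP
  obtain ⟨hZ11, hS, hSna, hS11, hidx⟩ := Core.structure_normalClosure hcard P hP hPn
  set L := normalClosure ((P : Subgroup G) : Set G) with hL
  haveI := hS
  haveI : Fintype (L ⧸ center L) := Fintype.ofFinite _
  have hmul : Nat.card (L ⧸ center L) * Nat.card (center L) * L.index = 95040 := by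
    rw [← card_eq_card_quotient_mul_card_subgroup (center L), L.card_mul_index, hcard]
  have hSd : Nat.card (L ⧸ center L) ∣ 95040 := Dvd.intro _ ((mul_assoc _ _ _).symm.trans hmul)
  rcases Small.order_cases hSna hSd hS11 with h | h | h
  · -- order 660
    exfalso
    obtain ⟨θ, hθ, hne⟩ := CfsgLib.Char.exists_constituent
      (CfsgLib.Char.isCharacter_res L (CfsgLib.Char.isCharacter_of_isIrr χ.2))
      (fun h => CfsgLib.Char.irr_one_ne_zero χ.2 (by simpa using congrFun h 1))
    obtain ⟨d, -, hd1⟩ := CfsgLib.Char.exists_degree_pos hθ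
    obtain ⟨h1, h2⟩ := CfsgLib.Char.degree_quotient_dvd_index L χ.2 hθ hne (deg_spec χ) hd1
    have h3' := CfsgLib.CharNormal.degree_sq_le_center hθ hd1
    rw [Subgroup.index_eq_card, h] at h3'
    rw [h] at hmul
    have h144 : L.index ∣ 144 := Dvd.intro_left (Nat.card (center L)) (by
      rw [mul_assoc] at hmul; omega)
    have hcop : Nat.Coprime (5 * 11) (deg χ / d) :=
      Nat.Coprime.coprime_dvd_right (h2.trans h144) (by norm_num)
    have h55 : 5 * 11 ∣ d := by
      refine hcop.dvd_of_dvd_mul_right ?_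
      rw [Nat.mul_div_cancel' h1]
      exact hd55
    have hd0 : 0 < d := Nat.pos_of_ne_zero fun e => CfsgLib.Char.irr_one_ne_zero hθ (by rw [hd1, e, Nat.cast_zero])
    have := Nat.le_of_dvd hd0 h55
    nlinarith
  · -- order 7920
    right
    haveI : IsSimpleGroup ↥Spor.M11 := CfsgLib.Golay.M11_simple
    obtain ⟨eS⟩ := CfsgLib.MElevenUnique.nonempty_mulEquiv (G := L ⧸ center L) (H := ↥Spor.M11) h
      CfsgLib.Golay.card_M11
    -- the normal closure is perfect
    have hperf : commutator L = ⊤ := by
      have hmap : (commutator L).map (QuotientGroup.mk' (center L)) = ⊤ := by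
        rw [map_commutator_eq, MonoidHom.range_eq_top_of_surjective _ (QuotientGroup.mk'_surjective _),
          ← _root_.commutator_def]
        exact CfsgLib.SmallGroups.commutator_eq_top_of_simple hSna
      have hsup : commutator L ⊔ center L = ⊤ := by
        rw [← QuotientGroup.ker_mk' (center L), ← comap_map_eq, hmap, comap_top]
      set K := (commutator L).map L.subtype with hK
      haveI : L.Normal := normalClosure_normal
      haveI : (commutator L).Characteristic := inferInstance
      have hKn : K.Normal := ConjAct.normal_of_characteristic_of_normal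
      have hPK : (P : Subgroup G) ≤ K := by
        intro p hp
        have hpL : p ∈ L := subset_normalClosure hp
        have h1 : (commutator L).index ∣ Nat.card (center L) := by
          rw [Subgroup.index_eq_card]
          refine Subgroup.card_dvd_of_surjective ((QuotientGroup.mk' (commutator L)).comp (center L).subtype) ?_
          rw [← MonoidHom.range_eq_top, MonoidHom.range_comp, Subgroup.range_subtype]
          have := congrArg (Subgroup.map (QuotientGroup.mk' (commutator L))) hsup
          rw [Subgroup.map_sup, QuotientGroup.map_mk'_self, bot_sup_eq,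
            map_top_of_surjective _ (QuotientGroup.mk'_surjective _)] at this
          exact this
        have hord : orderOf (QuotientGroup.mk' (commutator L) ⟨p, hpL⟩) ∣ 11 := by
          refine (orderOf_map_dvd _ _).trans ?_
          rw [← orderOf_injective L.subtype Subtype.val_injective]
          exact hP ▸ Subgroup.orderOf_dvd_natCard (s := (P : Subgroup G)) hp
        have hord' : orderOf (QuotientGroup.mk' (commutator L) ⟨p, hpL⟩) ∣ Nat.card (center L) :=
          (_root_.orderOf_dvd_natCard _).trans ((dvd_of_eq (Subgroup.index_eq_card (commutator L)).symm).trans h1)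
        have := Nat.eq_one_of_dvd_coprimes (((Nat.Prime.coprime_iff_not_dvd (by norm_num)).mpr hZ11)) hord hord'
        rw [orderOf_eq_one_iff, QuotientGroup.mk'_apply, QuotientGroup.eq_one_iff] at this
        exact ⟨_, this, rfl⟩
      refine eq_top_iff.mpr fun l _ => ?_
      obtain ⟨m, hm, he⟩ := (normalClosure_le_normal hPK : L ≤ K) l.2
      exact (Subtype.ext he : m = l) ▸ hm
    have hZ : center L = ⊥ := center_bot hperf eS
    let e : L ≃* ↥Spor.M11 :=
      ((QuotientGroup.quotientBot (G := L)).symm.trans (QuotientGroup.quotientMulEquivOfEq hZ.symm)).trans eS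
    haveI : L.Normal := normalClosure_normal
    set C := centralizer (L : Set G) with hC
    have hdisj : Disjoint C L := by
      rw [disjoint_iff_inf_le]
      intro a ha
      have : (⟨a, ha.2⟩ : L) ∈ center L := mem_center_iff.mpr fun b =>
        Subtype.ext (mem_centralizer_iff.mp ha.1 b b.2)
      rw [hZ, Subgroup.mem_bot] at this
      exact Subgroup.mem_bot.mpr (congrArg Subtype.val this)
    let μ : C × L →* G := MonoidHom.noncommCoprod C.subtype L.subtype fun c l =>
      (mem_centralizer_iff.mp c.2 l l.2).symm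
    have hμ : Function.Bijective μ := by
      constructor
      · rw [← MonoidHom.ker_eq_bot_iff, eq_bot_iff]
        rintro ⟨c, l⟩ hk
        rw [MonoidHom.mem_ker] at hk
        replace hk : (c : G) * (l : G) = 1 := hk
        have hc : (c : G) = (l : G)⁻¹ := eq_inv_of_mul_eq_one_left hk
        have hcL : (c : G) ∈ L := by rw [hc]; exact inv_mem l.2
        have h0 : (c : G) = 1 := Subgroup.mem_bot.mp (disjoint_iff_inf_le.mp hdisj ⟨c.2, hcL⟩)
        rw [Subgroup.mem_bot]
        refine Prod.ext (Subtype.ext h0) (Subtype.ext ?_)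
        rw [h0] at hc
        exact inv_eq_one.mp hc.symm
      · intro g
        obtain ⟨l, hl⟩ := exists_conj e (MulAut.conjNormal g : MulAut L)
        have hcC : g * (l : G)⁻¹ ∈ C := by
          rw [hC, mem_centralizer_iff]
          intro x hx
          have h1 := congrArg Subtype.val (hl ⟨(l : G)⁻¹ * x * l, mul_mem (mul_mem (inv_mem l.2) hx) l.2⟩)
          rw [MulAut.conjNormal_apply] at h1
          simp only [Subgroup.coe_mul, Subgroup.coe_inv] at h1
          have h2 : g * ((l : G)⁻¹ * x * l) * g⁻¹ = x := by rw [h1]; group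
          calc x * (g * (l : G)⁻¹) = g * ((l : G)⁻¹ * x * l) * g⁻¹ * (g * (l : G)⁻¹) := by rw [h2]
            _ = _ := by group
        exact ⟨(⟨g * (l : G)⁻¹, hcC⟩, l), inv_mul_cancel_right g (l : G)⟩
    let eG : G ≃* C × L := (MulEquiv.ofBijective μ hμ).symm
    have hC12 : Nat.card C = 12 := by
      have h1 := Nat.card_congr eG.toEquiv
      rw [hcard, Nat.card_prod, Nat.card_congr e.toEquiv, CfsgLib.Golay.card_M11] at h1
      omega
    have hψ := CfsgLib.CharNormal.isIrr_comp_mulEquiv ψ.2 eG.symm
    obtain ⟨φ, ξ, hφ, hξ, hprod⟩ := (CfsgLib.Char.isIrr_prod_iff _).mp hψ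
    obtain ⟨a, -, ha⟩ := CfsgLib.Char.exists_degree_pos hφ
    obtain ⟨b, -, hb⟩ := CfsgLib.Char.exists_degree_pos hξ
    have hab : deg ψ = a * b := by
      have h1 : (ψ : G → ℂ) (eG.symm 1) = φ 1 * ξ 1 := congrFun hprod 1
      rw [map_one, deg_spec, ha, hb] at h1
      exact_mod_cast h1
    have ha12 : a ∣ 12 := hC12 ▸ CfsgLib.Char.degree_dvd_card hφ ha
    have hb0 : 33 ∣ b → False := fun hb33 => eleven_degrees e ⟨ξ, hξ⟩ (by
      have : deg (⟨ξ, hξ⟩ : IrrCharacter L) = b := by
        have h1 := deg_spec (⟨ξ, hξ⟩ : IrrCharacter L)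
        rw [show ((⟨ξ, hξ⟩ : IrrCharacter L) : L → ℂ) 1 = ξ 1 from rfl, hb] at h1
        exact_mod_cast h1.symm
      rwa [this])
    rw [hab] at hd33
    have h11b : 11 ∣ b := by
      refine ((Nat.Prime.dvd_mul (by norm_num)).mp ((by norm_num : 11 ∣ 3 * 11).trans hd33)).resolve_left fun h => ?_
      have := h.trans ha12
      norm_num at this
    have h3a : 3 ∣ a := by
      refine ((Nat.Prime.dvd_mul Nat.prime_three).mp ((by norm_num : 3 ∣ 3 * 11).trans hd33)).resolve_right fun h => ?_
      exact hb0 (Nat.Coprime.mul_dvd_of_dvd_of_dvd (by norm_num : Nat.Coprime 3 11) h h11b)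
    have ha2 : a * a ≤ 12 := by
      have h1 := CfsgLib.CharNormal.degree_sq_le_center hφ ha
      refine h1.trans ?_
      rw [← hC12]
      exact Nat.le_of_dvd Nat.card_pos (index_dvd_card _)
    have ha3 : a = 3 := by
      obtain ⟨k, rfl⟩ := h3a
      have : 0 < k := Nat.pos_of_ne_zero fun e => by
        rw [e, Nat.mul_zero] at ha
        exact CfsgLib.Char.irr_one_ne_zero hφ (by rw [ha, Nat.cast_zero])
      have : k ≤ 1 := by nlinarith
      omega
    obtain ⟨eC⟩ := alternating_four hC12 hφ (by rw [ha, ha3]; norm_num)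
    exact ⟨eG.trans (MulEquiv.prodCongr eC e)⟩
  · -- order 95040
    left
    rw [h] at hmul
    have hpos : 0 < Nat.card (center L) := Nat.card_pos
    have hipos : 0 < L.index := Nat.pos_of_ne_zero Subgroup.index_ne_zero_of_finite
    have h1 : Nat.card (center L) * L.index = 1 := by rw [mul_assoc] at hmul; omega
    have hLtop : L = ⊤ := index_eq_one.mp (Nat.eq_one_of_mul_eq_one_left h1)
    have hZ : center L = ⊥ := card_eq_one.mp (Nat.eq_one_of_mul_eq_one_right h1)
    let e : G ≃* L ⧸ center L :=
      (((Subgroup.topEquiv (G := G)).symm.trans (MulEquiv.subgroupCongr hLtop.symm)).trans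
        (QuotientGroup.quotientBot (G := L)).symm).trans (QuotientGroup.quotientMulEquivOfEq hZ.symm)
    haveI : IsSimpleGroup G := MulEquiv.isSimpleGroup e
    exact CfsgLib.MTwelveUnique.equiv_M12 hcard

end CfsgLib.MTwelveNSE.Graph
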