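import Cfsg.Agent.Lib.MTwelveUnique.Eleven
import Cfsg.Agent.Lib.MTwelveUnique.Common
import Cfsg.Agent.Lib.SmallGroups.PrimeRational
import Cfsg.Agent.Lib.SmallGroups.SylowFixed
import Cfsg.Agent.Lib.SmallGroups.SylowLocal
import Cfsg.Agent.Lib.Char.ClassAlgebra

/-!
Simple groups with order a multiple of eleven dividing 95040: automizers of order two do not occur.
-/

set_option autoImplicit false

noncomputable section

namespace CfsgLib.MTwelveNSE.Small

open Subgroup CfsgLib.InvolChar CfsgLib.Blocks CfsgLib.Blocks.PrimeSylow Cfsg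
open scoped ComplexConjugate
attribute [local instance] Classical.propDecidable

variable {G : Type*} [Group G] [Fintype G] [IsSimpleGroup G]
variable (hna : ¬ IsMulCommutative G) (hd : Nat.card G ∣ 95040)

include hna in
theorem linear_trivial (f : G →* ℂˣ) : f = 1 :=
  CfsgLib.SmallGroups.PrimeOrderChar.linear_trivial hna f

include hd in
theorem deg_facts (χ : IrrCharacter G) : deg χ ∣ 95040 ∧ deg χ < 309 := by
  refine ⟨(CfsgLib.Char.degree_dvd_card χ.2 (deg_spec χ)).trans hd, ?_⟩
  have h := CfsgLib.Char.sum_degree_sq (G := G)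
  simp only [deg_spec, ← pow_two] at h
  have h' : ∑ χ : IrrCharacter G, deg χ ^ 2 = Nat.card G := by exact_mod_cast h
  have := Finset.single_le_sum (f := fun χ : IrrCharacter G => deg χ ^ 2)
    (fun _ _ => Nat.zero_le _) (Finset.mem_univ χ)
  rw [h'] at this
  have := Nat.le_of_dvd (by norm_num) hd
  nlinarith

omit [IsSimpleGroup G] in
theorem deg_sq_le_card (χ : IrrCharacter G) : deg χ * deg χ ≤ Nat.card G := by
  have h := CfsgLib.Char.sum_degree_sq (G := G)
  simp only [deg_spec] at h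
  have h' : ∑ χ : IrrCharacter G, deg χ * deg χ = Nat.card G := by
    simp only [← pow_two] at h ⊢; exact_mod_cast h
  rw [← h']
  exact Finset.single_le_sum (f := fun χ : IrrCharacter G => deg χ * deg χ)
    (fun _ _ => Nat.zero_le _) (Finset.mem_univ χ)

include hna in
theorem two_le_deg {χ : IrrCharacter G} (h : χ ≠ CfsgLib.Char.irrOne) : 2 ≤ deg χ := by
  have h0 := deg_pos χ
  by_contra hc
  exact h (CfsgLib.SmallGroups.MElevenDegrees.eq_irrOne_of_deg_one hna χ (by omega))

omit [IsSimpleGroup G] in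
/-- A character constant on the non-identity cosets of the subgroup generated by a commuting element. -/
theorem sum_cyclic (χ : IrrCharacter G) {x y : G} (hxy : Commute x y) {s : ℂ}
    (hs : ∀ a ∈ zpowers x, a ≠ 1 → ∀ b ∈ zpowers y, (χ : G → ℂ) (a * b) = s) :
    ∃ k : ℕ, ∑ b : zpowers y, (χ : G → ℂ) b + ((orderOf x : ℂ) - 1) * ((orderOf y : ℂ) * s) =
      (orderOf x : ℂ) * (orderOf y : ℂ) * (k : ℂ) := by
  classical
  have hc : ∀ (a : zpowers x) (b : zpowers y), Commute ((zpowers x).subtype a) ((zpowers y).subtype b) := by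
    rintro ⟨a, ha⟩ ⟨b, hb⟩
    obtain ⟨i, rfl⟩ := Subgroup.mem_zpowers_iff.mp ha
    obtain ⟨j, rfl⟩ := Subgroup.mem_zpowers_iff.mp hb
    exact hxy.zpow_zpow i j
  set φ := MonoidHom.noncommCoprod (zpowers x).subtype (zpowers y).subtype hc with hφ
  obtain ⟨k, hk⟩ := CfsgLib.Char.classInner_char_nat
    (CfsgLib.Char.isCharacter_comp (CfsgLib.Char.isCharacter_of_isIrr χ.2) φ)
    CfsgLib.Char.isCharacter_one
  refine ⟨k, ?_⟩
  rw [CfsgLib.Char.classInner_one_right, Nat.card_prod, Nat.card_zpowers, Nat.card_zpowers,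
    inv_mul_eq_iff_eq_mul₀ (by exact_mod_cast (Nat.mul_pos (orderOf_pos x) (orderOf_pos y)).ne')] at hk
  push_cast at hk
  rw [← hk, Fintype.sum_prod_type, ← Finset.add_sum_erase _ _ (Finset.mem_univ (1 : zpowers x))]
  congr 1
  · refine Finset.sum_congr rfl fun b _ => ?_
    simp [hφ]
  · have e : ∀ a ∈ (Finset.univ : Finset (zpowers x)).erase 1,
        ∑ b : zpowers y, ((χ : G → ℂ) ∘ φ) (a, b) = (orderOf y : ℂ) * s := by
      intro a ha
      have ha1 : (a : G) ≠ 1 := fun h => Finset.ne_of_mem_erase ha (Subtype.ext h)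
      rw [Finset.sum_congr rfl (g := fun _ => s) fun b _ => by
        simp only [Function.comp_apply, hφ, MonoidHom.noncommCoprod_apply, Subgroup.coe_subtype]
        exact hs a a.2 ha1 b b.2]
      rw [Finset.sum_const, Finset.card_univ, ← Nat.card_eq_fintype_card, Nat.card_zpowers, nsmul_eq_mul]
    rw [Finset.sum_congr rfl e, Finset.sum_const, Finset.card_erase_of_mem (Finset.mem_univ _),
      Finset.card_univ, ← Nat.card_eq_fintype_card, Nat.card_zpowers, nsmul_eq_mul,
      Nat.cast_sub (orderOf_pos x), Nat.cast_one]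

omit [IsSimpleGroup G] in
/-- Values off the principal block vanish at a self-centralising element of order eleven. -/
theorem vanish_outside [Fact (Nat.Prime 11)] (P : Sylow 11 G) (hP : Nat.card (P : Subgroup G) = 11)
    (hC : Nat.card (centralizer ((P : Subgroup G) : Set G)) = 11) {M : Ideal AlgInt}
    (hM : IsPModular 11 M) {χ : IrrCharacter G} (hχ : χ ∉ principalBlock M G) {i : ZMod 11} (hi : i ≠ 0) :
    (χ : G → ℂ) (pw P hP i) = 0 := by
  haveI := hM.2.1
  have hb := column_inner P hM hP hi hi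
  rw [if_pos (IsConj.refl _)] at hb
  have hall := CfsgLib.Char.second_orthogonality (pw P hP i) (pw P hP i)
  rw [if_pos (IsConj.refl _), centralizer_pw P hP hi, hC] at hall
  have hdiff : ∑ χ : IrrCharacter G, (if χ ∈ principalBlock M G then 0 else
      Complex.normSq ((χ : G → ℂ) (pw P hP i)) : ℝ) = 0 := by
    have h2 : (∑ χ : IrrCharacter G, ((if χ ∈ principalBlock M G then 0 else
        Complex.normSq ((χ : G → ℂ) (pw P hP i)) : ℝ) : ℂ)) = 0 := by
      calc _ = ∑ χ : IrrCharacter G, ((χ : G → ℂ) (pw P hP i) * conj ((χ : G → ℂ) (pw P hP i)) -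
            if χ ∈ principalBlock M G then
              (χ : G → ℂ) (pw P hP i) * conj ((χ : G → ℂ) (pw P hP i)) else 0) :=
            Finset.sum_congr rfl fun χ _ => by split_ifs <;> simp [Complex.mul_conj]
        _ = 0 := by rw [Finset.sum_sub_distrib, hall, hb, sub_self]
    exact_mod_cast h2
  have h3 := (Finset.sum_eq_zero_iff_of_nonneg fun χ _ => by
    split_ifs
    · exact le_rfl
    · exact Complex.normSq_nonneg _).mp hdiff χ (Finset.mem_univ χ)
  rw [if_neg hχ] at h3
  exact Complex.normSq_eq_zero.mp h3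

include hna in
/-- A simple non-abelian group has order divisible by four as soon as it is even. -/
theorem four_dvd_card (h : 2 ∣ Nat.card G) : 4 ∣ Nat.card G := by
  haveI : Fact (Nat.Prime 2) := ⟨Nat.prime_two⟩
  obtain ⟨t, ht⟩ := exists_prime_orderOf_dvd_card' (G := G) 2 h
  have h1 := CfsgLib.SmallGroups.SylowLocal.four_dvd_moved_action hna (X := G) (g := t)
    (by rw [← sq, ← ht]; exact pow_orderOf_eq_one t)
  haveI : IsEmpty {x : G // t • x = x} := ⟨fun ⟨x, hx⟩ => by
    rw [smul_eq_mul, mul_eq_right] at hx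
    rw [hx, orderOf_one] at ht; norm_num at ht⟩
  rw [Nat.card_of_isEmpty (α := {x : G // t • x = x}), Nat.sub_zero] at h1
  exact h1

/-- The arithmetic of the structure constant. -/
theorem two_arith : ∀ v ∈ [(-6 : ℤ), -2, 2, 6],
    (∀ n ∈ [12, 144], ¬ (15 : ℤ) ∣ 44 * (v - 10) * (v - 10) * ((n : ℕ) / 12 : ℕ)) ∧
    (∀ h ∈ Nat.divisors 990, ∀ K ∈ List.range 23,
      (K : ℤ) * h * h * 90 ≠ 990 * (v - 10) * (v - 10)) ∧
    (∀ h ∈ Nat.divisors 11880, ∀ K ∈ List.range 23,
      (K : ℤ) * h * h * 90 ≠ 11880 * (v - 10) * (v - 10)) := by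
  decide +kernel

omit [IsSimpleGroup G] in
theorem norm_le_deg (χ : IrrCharacter G) (g : G) : ‖(χ : G → ℂ) g‖ ≤ (deg χ : ℝ) := by
  obtain ⟨n, ρ, hirr, hρ⟩ := χ.2
  have hn : (deg χ : ℂ) = (Module.finrank ℂ (Fin n → ℂ) : ℂ) := by
    rw [← deg_spec χ, ← hρ, Representation.char_one]
  have hn' : deg χ = Module.finrank ℂ (Fin n → ℂ) := by exact_mod_cast hn
  rw [hn', ← hρ]
  exact CfsgLib.Char.norm_character_le ρ g

set_option maxHeartbeats 1000000 in
include hna hd in
/-- The automizer of a Sylow 11-subgroup is not of order two. -/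
theorem relIndex_ne_two [Fact (Nat.Prime 11)] (P : Sylow 11 G) (hP : Nat.card (P : Subgroup G) = 11)
    (he : (centralizer ((P : Subgroup G) : Set G)).relIndex (normalizer ((P : Subgroup G) : Set G)) = 2) :
    False := by
  classical
  haveI : Fact (Nat.Prime 2) := ⟨Nat.prime_two⟩
  obtain ⟨M, hM⟩ := CfsgLib.Invol.exists_isPModular 11 (by norm_num)
  haveI := hM.2.1
  obtain ⟨X, Y, hB, hXY, hXc, hYc, -, εX, ε, hX, hε, hYdeg, hYeq, hYrel⟩ :=
    principal_block_prime_sylow P hM hP 2 he
  have hdeg : ∀ χ : IrrCharacter G, charDegree (χ : G → ℂ) = deg χ :=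
    CfsgLib.SmallGroups.BrauerFew.deg_eq_charDegree
  set one : IrrCharacter G := CfsgLib.Char.irrOne with hone
  obtain ⟨θ, hθ⟩ : ∃ θ, θ ∈ Y := by
    rcases Set.eq_empty_or_nonempty Y with h | h
    · rw [h] at hYc; simp at hYc
    · exact h
  have h1X : one ∈ X := by
    have h : one ∈ X ∪ Y := hB ▸ irrOne_mem_principalBlock
    refine h.resolve_right fun h => ?_
    have := hYdeg one h
    rw [hdeg, hone, deg_irrOne] at this
    rcases hε with rfl | rfl <;> norm_num [Int.ModEq] at this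
  obtain ⟨a, b, hab, hXab⟩ := Set.ncard_eq_two.mp (by rw [← Nat.card_coe_set_eq, hXc] : X.ncard = 2)
  obtain ⟨χ, hχne, hXeq⟩ : ∃ χ, χ ≠ one ∧ X = {one, χ} := by
    rw [hXab] at h1X
    rcases h1X with h | h
    · exact ⟨b, h ▸ hab.symm, by rw [hXab, h]⟩
    · rw [Set.mem_singleton_iff] at h
      exact ⟨a, h ▸ hab, by rw [hXab, h, Set.pair_comm]⟩
  obtain ⟨hs, hcong, hvalχ⟩ := hX χ (by rw [hXeq]; simp)
  obtain ⟨hs1, hd1, hval1⟩ := hX one h1X
  rw [hdeg] at hcong hd1
  have hs1' : εX one = 1 := by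
    rcases hs1 with h | h
    · exact h
    · rw [h, hone, deg_irrOne] at hd1; norm_num [Int.ModEq] at hd1
  have hθd : ∀ θ ∈ Y, (deg θ : ℤ) ≡ ε * 2 [ZMOD 11] := fun θ hθ => by
    have := hYdeg θ hθ
    rw [hdeg] at this
    exact_mod_cast this
  set N := normalizer ((P : Subgroup G) : Set G) with hNdef
  set C := centralizer ((P : Subgroup G) : Set G) with hCdef
  have hCN : Nat.card C * 2 = Nat.card N := by
    rw [← he]; exact CfsgLib.SmallGroups.Order459648.card_centralizer_mul_relIndex _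
  have hrelAt : ∀ (g : G) (z w : ℂ), ¬ 11 ∣ orderOf g → (θ : G → ℂ) g = z → (χ : G → ℂ) g = w →
      (ε : ℂ) * z = 1 + (εX χ : ℂ) * w := by
    intro g z w hg hz hw
    have h := hYrel θ hθ g hg
    rw [hXeq, finsum_mem_pair hχne.symm, hz, hw, hs1', hone, CfsgLib.Char.irrOne_apply, Int.cast_one,
      one_mul] at h
    exact h
  -- the degrees
  obtain ⟨hχ10, hs', hθ9, hε'⟩ : deg χ = 10 ∧ εX χ = -1 ∧ deg θ = 9 ∧ ε = -1 := by
    have h1 : ε * (deg θ : ℤ) = 1 + εX χ * (deg χ : ℤ) := by
      exact_mod_cast hrelAt 1 (deg θ : ℂ) (deg χ : ℂ) (by rw [orderOf_one]; norm_num) (deg_spec θ) (deg_spec χ)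
    obtain ⟨k1, k2⟩ := CfsgLib.MTwelveUnique.ten_candidate (deg χ) (List.mem_range.mpr (deg_facts hd χ).2)
      (two_le_deg hna hχne) (deg_facts hd χ).1
    have hθdvd := (deg_facts hd θ).1
    have hθpos := deg_pos θ
    have hθd' := hθd θ hθ
    unfold Int.ModEq at hcong hθd'
    rcases hs with h | h <;> rw [h] at hcong h1
    · have e : deg θ = 1 + deg χ := by rcases hε with rfl | rfl <;> omega
      exact (k1 (by omega) ⟨e ▸ hθdvd, by rcases hε with rfl | rfl <;> omega⟩).elim
    · have e : deg θ = deg χ - 1 := by rcases hε with rfl | rfl <;> omega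
      have h10 := k2 (by omega) (e ▸ hθdvd) (by rcases hε with rfl | rfl <;> omega)
      refine ⟨h10, h, by omega, ?_⟩
      rcases hε with rfl | rfl
      · omega
      · rfl
  set x := gen P hP with hxdef
  have hxo : orderOf x = 11 := orderOf_gen P hP
  have hx1 : x ≠ 1 := fun h => by rw [h, orderOf_one] at hxo; norm_num at hxo
  -- the Sylow subgroup is self-centralising
  have hC : Nat.card C = 11 := by
    have h11 : 11 ∣ Nat.card C := hP ▸ card_dvd_of_le (le_centralizer P hP)
    by_contra hne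
    obtain ⟨q, hq, hqd⟩ := Nat.exists_prime_and_dvd (n := Nat.card C / 11) (by
      obtain ⟨j, hj⟩ := h11; omega)
    haveI := Fact.mk hq
    have hqC : q ∣ Nat.card C := hqd.trans (Nat.div_dvd_of_dvd h11)
    have hq11 : q ≠ 11 := by
      rintro rfl
      have h1 : 11 * 11 ∣ Nat.card C := by
        obtain ⟨j, hj⟩ := h11
        rw [hj, Nat.mul_div_cancel_left _ (by norm_num)] at hqd
        exact hj ▸ Nat.mul_dvd_mul_left 11 hqd
      have := (h1.trans (Subgroup.card_subgroup_dvd_card C)).trans hd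
      norm_num at this
    obtain ⟨⟨y, hyC⟩, hy⟩ := exists_prime_orderOf_dvd_card' (G := C) q hqC
    rw [Subgroup.orderOf_mk] at hy
    have hy1 : y ≠ 1 := fun h => by rw [h, orderOf_one] at hy; exact hq.one_lt.ne hy
    have hcomm : Commute x y := (Subgroup.mem_centralizer_iff.mp hyC) x (gen_mem P hP)
    obtain ⟨k, hk⟩ := sum_cyclic χ hcomm (s := (-1 : ℂ)) fun a ha ha1 b hb => by
      rw [hvalχ a (zpowers_gen P hP ▸ ha) ha1 b ((zpowers_le.mpr hyC : zpowers y ≤ C) hb) ?_, hs']
      · norm_num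
      · intro h
        exact hq11 ((Nat.prime_dvd_prime_iff_eq (by norm_num) hq).mp
          (h.trans (hy ▸ orderOf_dvd_of_mem_zpowers hb))).symm
    rw [hxo, hy] at hk
    have hre : ∑ b : zpowers y, ((χ : G → ℂ) b).re = 11 * (q : ℝ) * k + 10 * q := by
      have := congrArg Complex.re hk
      simp only [Complex.add_re, Complex.re_sum, Complex.mul_re, Complex.natCast_re, Complex.natCast_im,
        Complex.sub_re, Complex.one_re, Complex.neg_re, Complex.neg_im, Complex.mul_im, Complex.sub_im,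
        Complex.one_im] at this
      push_cast at this
      linarith
    have hle : ∀ b : zpowers y, ((χ : G → ℂ) b).re ≤ 10 := fun b => by
      have := norm_le_deg χ (b : G)
      rw [hχ10] at this
      push_cast at this
      exact (Complex.re_le_norm _).trans this
    have hqc : Fintype.card (zpowers y) = q := by rw [← Nat.card_eq_fintype_card, Nat.card_zpowers, hy]
    have hk0 : (k : ℝ) = 0 := by
      have h1 := Finset.sum_le_sum (s := Finset.univ) fun b _ => hle b
      rw [hre, Finset.sum_const, Finset.card_univ, hqc, nsmul_eq_mul] at h1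
      have : (0 : ℝ) < q := by exact_mod_cast hq.pos
      have : (0 : ℝ) ≤ k := Nat.cast_nonneg k
      nlinarith
    have hval : ((χ : G → ℂ) y).re = 10 := by
      have h1 : ∑ b : zpowers y, (10 - ((χ : G → ℂ) b).re) = 0 := by
        rw [Finset.sum_sub_distrib, hre, Finset.sum_const, Finset.card_univ, hqc, nsmul_eq_mul, hk0]; ring
      have h2 := (Finset.sum_eq_zero_iff_of_nonneg fun b _ => sub_nonneg.mpr (hle b)).mp h1
        ⟨y, mem_zpowers y⟩ (Finset.mem_univ _)
      linarith
    have hv : (χ : G → ℂ) y = ((10 : ℤ) : ℂ) := by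
      have hn := norm_le_deg χ y
      rw [hχ10] at hn
      push_cast at hn
      have h2 := Complex.normSq_eq_norm_sq ((χ : G → ℂ) y)
      rw [Complex.normSq_apply, hval] at h2
      refine Complex.ext (by rw [hval]; norm_num) ?_
      simp only [Int.cast_ofNat, Complex.im_ofNat]
      nlinarith [norm_nonneg ((χ : G → ℂ) y)]
    have := CfsgLib.MTwelveUnique.sq_lt_deg_sq hna χ hχne hy1 hv
    rw [hχ10] at this
    norm_num at this
  -- the inverting involutions and the structure constant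
  have hcentx : centralizer ({x} : Set G) = C := by
    rw [← centralizer_closure, ← zpowers_eq_closure, zpowers_gen P hP]
  obtain ⟨t, ht⟩ : ∃ t : G, orderOf t = 2 := by
    refine exists_prime_orderOf_dvd_card' 2 ?_
    exact (Dvd.intro_left _ hCN).trans (Subgroup.card_subgroup_dvd_card _)
  have ht1 : t ≠ 1 := fun h => by rw [h, orderOf_one] at ht; norm_num at ht
  have htt : t * t = 1 := by rw [← sq, ← ht]; exact pow_orderOf_eq_one t
  set v := intVal χ htt with hv
  have f1 := CfsgLib.SmallGroups.PrimeRational.four_dvd_deg_sub (linear_trivial hna) χ htt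
  have hvlt := CfsgLib.SmallGroups.SignedData.intVal_sq_lt hna χ hχne htt ht1
  rw [hχ10] at f1 hvlt
  rw [← hv] at f1 hvlt
  push_cast at hvlt
  have hθt : ∀ θ' ∈ Y, (θ' : G → ℂ) t = ((v - 1 : ℤ) : ℂ) := fun θ' hθ' => by
    rw [hYeq θ' hθ' θ hθ t (by rw [ht]; norm_num)]
    have := hrelAt t _ _ (by rw [ht]; norm_num) rfl (intVal_spec χ htt)
    rw [hε', hs', ← hv] at this
    push_cast at this ⊢
    linear_combination -this
  have hθ9' : ∀ θ' ∈ Y, (θ' : G → ℂ) 1 = 9 := fun θ' hθ' => by
    rw [hYeq θ' hθ' θ hθ 1 (by rw [orderOf_one]; norm_num), deg_spec, hθ9]; norm_num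
  set Yf : Finset (IrrCharacter G) := Finset.univ.filter (· ∈ Y) with hYf
  have hχY : χ ∉ Y := fun h => Set.disjoint_left.mp hXY (by rw [hXeq]; simp) h
  have h1Y : one ∉ Y := fun h => Set.disjoint_left.mp hXY h1X h
  have hnz : ∃ i : ZMod 11, i ≠ 0 ∧ x = pw P hP i := by
    obtain ⟨i, hi⟩ := pw_surjOn P hP (gen_mem P hP)
    exact ⟨i, fun h => by rw [h, pw_zero] at hi; exact hx1 hi.symm, hi.symm⟩
  obtain ⟨i₀, hi₀, hxi⟩ := hnz
  have hsplit : ∀ F : IrrCharacter G → ℂ, (∀ ψ : IrrCharacter G, (ψ : G → ℂ) x = 0 → F ψ = 0) →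
      ∑ ψ, F ψ = F one + F χ + ∑ ψ ∈ Yf, F ψ := by
    intro F hF
    rw [← Finset.sum_subset (Finset.subset_univ (insert one (insert χ Yf)))]
    · rw [Finset.sum_insert (by simp [hYf, hχne.symm, h1Y]), Finset.sum_insert (by simp [hYf, hχY]),
        add_assoc]
    · intro ψ _ hψ
      refine hF ψ ?_
      rw [hxi]
      refine vanish_outside P hP hC hM (fun h => hψ ?_) hi₀
      rw [hB, hXeq] at h
      simp only [Finset.mem_insert, hYf, Finset.mem_filter, Finset.mem_univ, true_and]
      simpa [or_assoc] using h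
  have hχx : (χ : G → ℂ) x = -1 := by
    have := hvalχ x (gen_mem P hP) hx1 1 (one_mem _) (by rw [orderOf_one]; norm_num)
    rw [mul_one, hs'] at this
    rw [this]; norm_num
  have hone' : ∀ g, (one : G → ℂ) g = 1 := fun g => by rw [hone, CfsgLib.Char.irrOne_apply]
  have hYsum : ∑ ψ ∈ Yf, conj ((ψ : G → ℂ) x) = 1 := by
    have e := CfsgLib.Char.second_orthogonality (1 : G) x
    rw [if_neg (fun h => hx1 (isConj_one_right.mp h)), hsplit _ (fun ψ h => by rw [h]; simp), hone',
      hone', hχx, deg_spec χ, hχ10,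
      Finset.sum_congr rfl (g := fun ψ : IrrCharacter G => 9 * conj ((ψ : G → ℂ) x)) fun ψ hψ => by
        rw [hθ9' ψ (by simpa [hYf] using hψ)], ← Finset.mul_sum] at e
    simp only [map_one, map_neg] at e
    push_cast at e
    linear_combination e / 9
  set K := Nat.card {p : G × G // IsConj t p.1 ∧ IsConj t p.2 ∧ p.1 * p.2 = x} with hKdef
  have hK23 : K < 23 := by
    have hmem : ∀ p : {p : G × G // IsConj t p.1 ∧ IsConj t p.2 ∧ p.1 * p.2 = x}, p.1.1 ∈ N := by
      rintro ⟨⟨p, q⟩, hp, hq, hpq⟩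
      have hsq : ∀ r, IsConj t r → r * r = 1 := fun r hr => by
        obtain ⟨g, rfl⟩ := isConj_iff.mp hr
        rw [show g * t * g⁻¹ * (g * t * g⁻¹) = g * (t * t) * g⁻¹ by group, htt]; group
      have hinv : p * x * p⁻¹ = x⁻¹ := by
        rw [← hpq, mul_inv_rev, ← eq_inv_of_mul_eq_one_left (hsq p hp),
          show q⁻¹ = q from (eq_inv_of_mul_eq_one_left (hsq q hq)).symm, ← mul_assoc, hsq p hp, one_mul]
      show p ∈ N
      rw [hNdef, ← zpowers_gen P hP]
      intro r
      have e : (zpowers x).map (MulAut.conj p).toMonoidHom = zpowers x := by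
        rw [MonoidHom.map_zpowers]
        show zpowers (p * x * p⁻¹) = _
        rw [hinv, zpowers_inv]
      have h2 : r ∈ zpowers x ↔ p * r * p⁻¹ ∈ (zpowers x).map (MulAut.conj p).toMonoidHom :=
        (Subgroup.mem_map_iff_mem (f := (MulAut.conj p).toMonoidHom) (MulAut.conj p).injective
          (x := r)).symm
      rw [e] at h2
      exact h2
    have := Nat.card_le_card_of_injective (fun p => (⟨p.1.1, hmem p⟩ : N)) (by
      intro a b hab
      have h1 : a.1.1 = b.1.1 := congrArg Subtype.val hab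
      have h2 : a.1.1 * a.1.2 = b.1.1 * b.1.2 := a.2.2.2.trans b.2.2.2.symm
      rw [h1] at h2
      exact Subtype.ext (Prod.ext h1 (mul_left_cancel h2)))
    rw [← hKdef, ← hCN, hC] at this
    omega
  set h := Nat.card (centralizer ({t} : Set G)) with hh
  have hmain : (K : ℤ) * h * h * 90 = (Nat.card G : ℤ) * (v - 10) * (v - 10) := by
    have e := CfsgLib.Char.card_classProduct_eq t t x
    rw [← hKdef, hsplit _ (fun ψ h => by rw [h]; simp), hone', hone', hone', hχx, intVal_spec χ htt, ← hv,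
      deg_spec χ, hχ10,
      Finset.sum_congr rfl (g := fun ψ : IrrCharacter G => (((v - 1) * (v - 1) : ℤ) : ℂ) / 9 * conj ((ψ : G → ℂ) x))
        fun ψ hψ => by
          have hψ' : ψ ∈ Y := by simpa [hYf] using hψ
          rw [hθt ψ hψ', hθ9' ψ hψ']; push_cast; ring,
      ← Finset.mul_sum, hYsum] at e
    simp only [map_one, map_neg] at e
    push_cast at e
    have hcl : (Nat.card {y : G // IsConj t y} : ℂ) * (h : ℂ) = (Nat.card G : ℂ) := by
      exact_mod_cast CfsgLib.Invol.card_conjugates_mul t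
    have hG0 : (Nat.card G : ℂ) ≠ 0 := by exact_mod_cast Nat.card_pos.ne'
    set c := (Nat.card {y : G // IsConj t y} : ℂ)
    have e' : (K : ℂ) * (Nat.card G : ℂ) * 90 = c * c * (((v : ℂ) - 10) * ((v : ℂ) - 10)) := by
      rw [e]; field_simp; ring
    have e'' : ((K : ℂ) * h * h * 90) * (Nat.card G : ℂ) =
        ((Nat.card G : ℂ) * ((v : ℂ) - 10) * ((v : ℂ) - 10)) * (Nat.card G : ℂ) := by
      linear_combination (h : ℂ) * (h : ℂ) * e' +
        ((v : ℂ) - 10) * ((v : ℂ) - 10) * (c * (h : ℂ) + (Nat.card G : ℂ)) * hcl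
    exact_mod_cast mul_right_cancel₀ hG0 e''
  -- the Sylow number
  have hn := CfsgLib.SmallGroups.card_sylow_mul_card_normalizer P
  have hn1 := CfsgLib.SmallGroups.mod_eq_one_card_sylow (p := 11) (G := G)
  have hne1 := CfsgLib.SmallGroups.card_sylow_ne_one hna
    (show 11 ∣ Nat.card G from hP ▸ Subgroup.card_subgroup_dvd_card _)
  rw [← hCN, hC] at hn
  set n := Nat.card (Sylow 11 G)
  have hdvd : n ∣ 4320 := by
    refine (Nat.mul_dvd_mul_iff_right (by norm_num : 0 < 22)).mp ?_
    rw [show n * 22 = Nat.card G by omega]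
    exact hd
  have key : ∀ k ∈ Nat.divisors 4320, k % 11 = 1 → k = 1 ∨ k = 12 ∨ k = 45 ∨ k = 144 ∨ k = 540 := by
    decide +kernel
  have hG : Nat.card G = 22 * n := by omega
  have hhd : h ∣ Nat.card G := Subgroup.card_subgroup_dvd_card _
  have hv4 : v ∈ [(-6 : ℤ), -2, 2, 6] := by
    have h1 : -10 < v ∧ v < 10 := by constructor <;> nlinarith
    obtain ⟨j, hj⟩ := f1
    push_cast at hj
    simp only [List.mem_cons, List.not_mem_nil, or_false]
    omega
  obtain ⟨a1, a2, a3⟩ := two_arith v hv4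
  rcases key n (Nat.mem_divisors.mpr ⟨hdvd, by norm_num⟩) hn1 with e | e | e | e | e
  · exact hne1 e
  · refine a1 12 (by simp) ?_
    rw [hG, e] at hmain
    push_cast at hmain
    exact ⟨(K : ℤ) * h * h, by norm_num; linarith⟩
  · rw [hG, e] at hmain hhd
    exact a2 h (Nat.mem_divisors.mpr ⟨hhd, by norm_num⟩) K (List.mem_range.mpr hK23) (by exact_mod_cast hmain)
  · refine a1 144 (by simp) ?_
    rw [hG, e] at hmain
    push_cast at hmain
    exact ⟨(K : ℤ) * h * h, by norm_num; linarith⟩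
  · rw [hG, e] at hmain hhd
    exact a3 h (Nat.mem_divisors.mpr ⟨hhd, by norm_num⟩) K (List.mem_range.mpr hK23) (by exact_mod_cast hmain)

end CfsgLib.MTwelveNSE.Small
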