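import Cfsg.Agent.Lib.MTwelveNSE.Small

/-!
Local facts at a Sylow 11-subgroup of a simple group with order dividing 95040: normalisers of the
Sylow subgroups of the centraliser, and inverting involutions.
-/

set_option autoImplicit false

noncomputable section

namespace CfsgLib.MTwelveNSE.Small

open Subgroup CfsgLib.InvolChar CfsgLib.Blocks CfsgLib.Blocks.PrimeSylow Cfsg
attribute [local instance] Classical.propDecidable

variable {G : Type*} [Group G] [Fintype G] [IsSimpleGroup G]
variable (hna : ¬ IsMulCommutative G)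

/-- With a subgroup of index twelve a Sylow 11-subgroup is self-centralising. -/
theorem centralizer_le_of_index [Fact (Nat.Prime 11)] (P : Sylow 11 G)
    (hP : Nat.card (P : Subgroup G) = 11) (M : Subgroup G) (h : M.index = 12) :
    Nat.card (centralizer ((P : Subgroup G) : Set G)) ≤ 11 := by
  classical
  haveI : Fintype (G ⧸ M) := Fintype.ofFinite _
  have hx := orderOf_gen P hP
  set x := gen P hP
  have hM : M ≠ ⊤ := fun e => by rw [e, index_top] at h; norm_num at h
  set φ := MulAction.toPermHom G (G ⧸ M) with hφ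
  have hφi := CfsgLib.MTwelveUnique.coset_injective hM
  have hα : Fintype.card (G ⧸ M) = 12 := by rw [← Nat.card_eq_fintype_card]; exact h
  have hσ : orderOf (φ x) = 11 := by rw [orderOf_injective φ hφi, hx]
  have hcyc : (φ x).IsCycle :=
    Equiv.Perm.isCycle_of_prime_order' (by rw [hσ]; norm_num) (by rw [hα, hσ]; norm_num)
  have hsup : (φ x).support.card = 11 := by rw [← hcyc.orderOf]; exact hσ
  have hc : Nat.card (centralizer ({φ x} : Set (Equiv.Perm (G ⧸ M)))) = 11 := by
    rw [Equiv.Perm.nat_card_centralizer, hcyc.cycleType, hα, hsup]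
    simp
  have hCx : centralizer ({x} : Set G) = centralizer ((P : Subgroup G) : Set G) := by
    rw [← centralizer_closure, ← zpowers_eq_closure, zpowers_gen P hP]
  rw [← hCx]
  let ψ : centralizer ({x} : Set G) → centralizer ({φ x} : Set (Equiv.Perm (G ⧸ M))) := fun c =>
    ⟨φ c, mem_centralizer_singleton_iff.mpr (by
      rw [← map_mul, ← map_mul, mem_centralizer_singleton_iff.mp c.2])⟩
  exact hc ▸ Nat.card_le_card_of_injective ψ fun a b e => Subtype.ext (hφi (congrArg Subtype.val e))

include hna in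
set_option maxHeartbeats 1000000 in
/-- A Sylow subgroup of the centraliser has as normaliser just the normaliser of the Sylow
11-subgroup. -/
theorem exists_normalizer_eq [Fact (Nat.Prime 11)] (P : Sylow 11 G) (hP : Nat.card (P : Subgroup G) = 11)
    (hn : Nat.card (Sylow 11 G) = 144) {q a r : ℕ} (hq : q.Prime) (hq11 : q ≠ 11) (ha : 0 < a)
    (hr : r = 1 ∨ (r = 2 ∧ q = 3))
    (hC : Nat.card (centralizer ((P : Subgroup G) : Set G)) = 11 * (q ^ a * r)) :
    ∃ R : Subgroup G, R ≤ centralizer ((P : Subgroup G) : Set G) ∧ Nat.card R = q ^ a ∧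
      Nat.card (normalizer (R : Set G)) = Nat.card (normalizer ((P : Subgroup G) : Set G)) := by
  classical
  haveI := Fact.mk hq
  set C := centralizer ((P : Subgroup G) : Set G) with hCdef
  have hPC : (P : Subgroup G) ≤ C := le_centralizer P hP
  obtain ⟨R⟩ : Nonempty (Sylow q C) := inferInstance
  have hqr : ¬ q ∣ 11 * r := by
    intro h
    rcases hq.dvd_mul.mp h with h | h
    · exact hq11 ((Nat.prime_dvd_prime_iff_eq hq (by norm_num)).mp h)
    · rcases hr with rfl | ⟨rfl, rfl⟩
      · exact hq.not_dvd_one h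
      · norm_num at h
  have hRc : Nat.card (R : Subgroup C) = q ^ a :=
    CfsgLib.SmallGroups.card_sylow_eq (m := 11 * r) (by rw [hC]; ring) hqr R
  have hRn : (R : Subgroup C).Normal := by
    refine CfsgLib.SmallGroups.sylow_normal_of_card_eq_one ?_ R
    have hle : (P : Subgroup G).subgroupOf C ≤ normalizer ((R : Subgroup C) : Set C) := by
      intro g hg h
      have e : g * h * g⁻¹ = h := by
        have : h * g = g * h := Subtype.ext
          ((Subgroup.mem_centralizer_iff.mp h.2) (g : G) (Subgroup.mem_subgroupOf.mp hg)).symm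
        rw [← this, mul_inv_cancel_right]
      rw [e]
    have h1 : 11 ∣ Nat.card (normalizer ((R : Subgroup C) : Set C)) := by
      have := card_dvd_of_le hle
      rwa [Nat.card_congr (subgroupOfEquivOfLe hPC).toEquiv, hP] at this
    have h2 : q ^ a ∣ Nat.card (normalizer ((R : Subgroup C) : Set C)) :=
      hRc ▸ card_dvd_of_le le_normalizer
    obtain ⟨j, hj⟩ := (((Nat.coprime_primes (by norm_num) hq).mpr hq11.symm).pow_right a).mul_dvd_of_dvd_of_dvd h1 h2
    have hn' := CfsgLib.SmallGroups.card_sylow_mul_card_normalizer R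
    have hm := CfsgLib.SmallGroups.mod_eq_one_card_sylow (p := q) (G := C)
    rw [hj, hC, mul_comm (Nat.card (Sylow q C)), mul_assoc, ← mul_assoc 11 (q ^ a) r,
      mul_comm j] at hn'
    have hmul : Nat.card (Sylow q C) * j = r := Nat.eq_of_mul_eq_mul_left
      (Nat.mul_pos (by norm_num) (pow_pos hq.pos a)) hn'
    rcases hr with rfl | ⟨rfl, rfl⟩
    · exact Nat.eq_one_of_mul_eq_one_right hmul
    · have : Nat.card (Sylow 3 C) ≤ 2 := Nat.le_of_dvd (by norm_num) (Dvd.intro j hmul)
      omega
  set R' := (R : Subgroup C).map C.subtype with hR'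
  have hR'c : Nat.card R' = q ^ a := (card_map_of_injective C.subtype_injective).trans hRc
  have hR'q : IsPGroup q R' := R.2.map C.subtype
  have hR'C : R' ≤ C := map_subtype_le _
  set M := normalizer (R' : Set G) with hM
  have hPN : normalizer ((P : Subgroup G) : Set G) ≤ M := by
    intro g hg
    have hCg : ∀ g ∈ normalizer ((P : Subgroup G) : Set G), ∀ c ∈ C, g * c * g⁻¹ ∈ C := by
      intro g hg c hc
      rw [hCdef, Subgroup.mem_centralizer_iff] at hc ⊢
      intro h hh
      have h' := hc (g⁻¹ * h * g) (by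
        have := ((inv_mem hg : g⁻¹ ∈ normalizer ((P : Subgroup G) : Set G)) h).mp hh
        rwa [inv_inv] at this)
      calc h * (g * c * g⁻¹) = g * ((g⁻¹ * h * g) * c) * g⁻¹ := by group
        _ = _ := by rw [h']; group
    have hsub : ∀ g' ∈ normalizer ((P : Subgroup G) : Set G), ∀ r ∈ R', g' * r * g'⁻¹ ∈ R' := by
      intro g' hg' r hr
      set T := (R'.map (MulAut.conj g').toMonoidHom).subgroupOf C with hT
      have hle : R'.map (MulAut.conj g').toMonoidHom ≤ C := by
        rintro _ ⟨b, hb, rfl⟩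
        exact hCg g' hg' b (hR'C hb)
      have hTq : IsPGroup q T :=
        (hR'q.map (MulAut.conj g').toMonoidHom).of_equiv (subgroupOfEquivOfLe hle).symm
      obtain ⟨Q, hQ⟩ := hTq.exists_le_sylow
      haveI := Sylow.unique_of_normal R hRn
      have hQR : Q = R := Subsingleton.elim _ _
      have hmem : (⟨g' * r * g'⁻¹, hCg g' hg' r (hR'C hr)⟩ : C) ∈ (R : Subgroup C) := hQR ▸ hQ (by
        rw [hT, Subgroup.mem_subgroupOf]
        exact ⟨r, hr, rfl⟩)
      exact ⟨_, hmem, rfl⟩
    intro r
    refine ⟨hsub g hg r, fun h => ?_⟩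
    have := hsub g⁻¹ (inv_mem hg) _ h
    simpa [mul_assoc] using this
  refine ⟨R', hR'C, hR'c, ?_⟩
  have hG : Nat.card G = 144 * Nat.card (normalizer ((P : Subgroup G) : Set G)) := by
    rw [← hn, CfsgLib.SmallGroups.card_sylow_mul_card_normalizer P]
  have hqa : 1 < q ^ a := Nat.one_lt_pow ha.ne' hq.one_lt
  have hMne : M ≠ ⊤ := by
    intro h
    haveI : R'.Normal := normalizer_eq_top_iff.mp h
    rcases Subgroup.Normal.eq_bot_or_eq_top (H := R') inferInstance with h' | h'
    · rw [h', card_bot] at hR'c; omega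
    · rw [h', card_top, hG] at hR'c
      have h11 : 11 ∣ Nat.card (normalizer ((P : Subgroup G) : Set G)) := by
        have := card_dvd_of_le (le_normalizer (H := (P : Subgroup G)))
        rwa [hP] at this
      exact hq11 ((Nat.prime_dvd_prime_iff_eq (by norm_num) hq).mp
        ((by norm_num : Nat.Prime 11).dvd_of_dvd_pow (hR'c ▸ h11.mul_left 144))).symm
  have hPM : (P : Subgroup G) ≤ M := Subgroup.le_normalizer.trans hPN
  set P' : Sylow 11 M := P.subtype hPM with hP'
  have hN' : Nat.card (normalizer ((P' : Subgroup M) : Set M)) =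
      Nat.card (normalizer ((P : Subgroup G) : Set G)) := by
    have e : normalizer ((P' : Subgroup M) : Set M) =
        (normalizer ((P : Subgroup G) : Set G)).subgroupOf M := by
      rw [hP', Sylow.coe_subtype, Subgroup.subgroupOf_normalizer_eq hPM]
    rw [e, Nat.card_congr (subgroupOfEquivOfLe hPN).toEquiv]
  have hk := CfsgLib.SmallGroups.card_sylow_mul_card_normalizer P'
  rw [hN'] at hk
  have hk1 := CfsgLib.SmallGroups.mod_eq_one_card_sylow (p := 11) (G := M)
  have hdv : Nat.card (Sylow 11 M) ∣ 144 := by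
    refine (Nat.mul_dvd_mul_iff_right (Nat.card_pos (α := normalizer ((P : Subgroup G) : Set G)))).mp ?_
    rw [hk]
    exact (M.card_subgroup_dvd_card).trans (dvd_of_eq hG)
  have key : ∀ k ∈ Nat.divisors 144, k % 11 = 1 → k = 1 ∨ k = 12 ∨ k = 144 := by decide
  rcases key _ (Nat.mem_divisors.mpr ⟨hdv, by norm_num⟩) hk1 with e | e | e <;> rw [e] at hk
  · rw [← hk, one_mul]
  · exfalso
    have hi : M.index = 12 := by
      have h := M.card_mul_index
      rw [← hk, hG] at h
      have hN := Nat.card_pos (α := normalizer ((P : Subgroup G) : Set G))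
      nlinarith
    have h := centralizer_le_of_index P hP M hi
    rw [← hCdef, hC] at h
    have : 1 ≤ r := by rcases hr with rfl | ⟨rfl, -⟩ <;> norm_num
    nlinarith
  · exact absurd (eq_top_of_card_eq M (by rw [← hk, hG])) hMne

include hna in
/-- The centraliser cannot have a q-part below that of the group unless the normaliser grows. -/
theorem no_growth [Fact (Nat.Prime 11)] (P : Sylow 11 G) (hP : Nat.card (P : Subgroup G) = 11)
    (hn : Nat.card (Sylow 11 G) = 144) {q a r : ℕ} (hq : q.Prime) (hq11 : q ≠ 11) (ha : 0 < a)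
    (hr : r = 1 ∨ (r = 2 ∧ q = 3))
    (hC : Nat.card (centralizer ((P : Subgroup G) : Set G)) = 11 * (q ^ a * r))
    (hNq : ¬ q ^ (a + 1) ∣ Nat.card (normalizer ((P : Subgroup G) : Set G)))
    (hGq : q ^ (a + 1) ∣ 144 * Nat.card (normalizer ((P : Subgroup G) : Set G))) : False := by
  classical
  haveI := Fact.mk hq
  obtain ⟨R', -, hR'c, hM⟩ := exists_normalizer_eq hna P hP hn hq hq11 ha hr hC
  obtain ⟨Q, hQ⟩ := (IsPGroup.of_card (p := q) (n := a) hR'c : IsPGroup q R').exists_le_sylow
  have hQd : q ^ (a + 1) ∣ Nat.card (Q : Subgroup G) :=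
    Q.pow_dvd_card_of_pow_dvd_card (hGq.trans (dvd_of_eq (by
      rw [← hn, CfsgLib.SmallGroups.card_sylow_mul_card_normalizer P])))
  set R'' := R'.subgroupOf (Q : Subgroup G) with hR''
  have hR''c : Nat.card R'' = q ^ a := by rw [hR'', Nat.card_congr (subgroupOfEquivOfLe hQ).toEquiv, hR'c]
  haveI : Group.IsNilpotent (Q : Subgroup G) := Q.2.isNilpotent
  have hlt : R'' < normalizer (R'' : Set (Q : Subgroup G)) :=
    Group.normalizerCondition_of_isNilpotent R'' (lt_top_iff_ne_top.mpr fun h => by
      rw [h, card_top] at hR''c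
      rw [hR''c] at hQd
      exact absurd (Nat.le_of_dvd (pow_pos hq.pos a) hQd)
        (not_le.mpr (Nat.pow_lt_pow_right hq.one_lt (Nat.lt_succ_self a))))
  set L := (normalizer (R'' : Set (Q : Subgroup G))).map (Q : Subgroup G).subtype with hL
  have hLM : L ≤ normalizer (R' : Set G) := by
    rintro _ ⟨b, hb, rfl⟩ r
    refine ⟨fun hr => ?_, fun hr => ?_⟩
    · exact Subgroup.mem_subgroupOf.mp ((hb ⟨r, hQ hr⟩).mp hr)
    · have hrQ : r ∈ (Q : Subgroup G) := by
        have : ((b : G))⁻¹ * ((b : G) * r * (b : G)⁻¹) * b ∈ (Q : Subgroup G) :=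
          mul_mem (mul_mem (inv_mem b.2) (hQ hr)) b.2
        simpa [mul_assoc] using this
      exact Subgroup.mem_subgroupOf.mp ((hb ⟨r, hrQ⟩).mpr hr)
  have hLc : Nat.card L = Nat.card (normalizer (R'' : Set (Q : Subgroup G))) :=
    card_map_of_injective (Q : Subgroup G).subtype_injective
  obtain ⟨j, hj⟩ := IsPGroup.iff_card.mp (Q.2.to_subgroup (normalizer (R'' : Set (Q : Subgroup G))))
  have haj : a < j := by
    by_contra hle
    refine hlt.ne (eq_of_le_of_card_ge hlt.le ?_)
    rw [hR''c, hj]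
    exact Nat.pow_le_pow_right hq.pos (not_lt.mp hle)
  refine hNq ((pow_dvd_pow q haj).trans ?_)
  rw [← hj, ← hLc, ← hM]
  exact card_dvd_of_le hLM

/-- An involution in the normaliser outside the centraliser. -/
theorem exists_inverting [Fact (Nat.Prime 11)] (P : Sylow 11 G)
    (hC : Nat.card (centralizer ((P : Subgroup G) : Set G)) = 11)
    (he : Nat.card (normalizer ((P : Subgroup G) : Set G)) = 110) :
    ∃ t : G, orderOf t = 2 ∧ t ∈ normalizer ((P : Subgroup G) : Set G) ∧
      t ∉ centralizer ((P : Subgroup G) : Set G) := by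
  haveI : Fact (Nat.Prime 2) := ⟨Nat.prime_two⟩
  obtain ⟨⟨t, htN⟩, ht⟩ := exists_prime_orderOf_dvd_card'
    (G := normalizer ((P : Subgroup G) : Set G)) 2 (by rw [he]; norm_num)
  rw [Subgroup.orderOf_mk] at ht
  refine ⟨t, ht, htN, fun h => ?_⟩
  have := Subgroup.orderOf_dvd_natCard (s := centralizer ((P : Subgroup G) : Set G)) h
  rw [ht, hC] at this
  norm_num at this

include hna in
/-- Twelve Sylow subgroups do not allow an automizer of order ten. -/
theorem no_index_twelve [Fact (Nat.Prime 11)] (P : Sylow 11 G) (hP : Nat.card (P : Subgroup G) = 11)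
    (hn : Nat.card (Sylow 11 G) = 12) (hC : Nat.card (centralizer ((P : Subgroup G) : Set G)) = 11)
    (he : Nat.card (normalizer ((P : Subgroup G) : Set G)) = 110) : False := by
  obtain ⟨t, ht, htN, htC⟩ := exists_inverting P hC he
  have h2 : CfsgLib.SmallGroups.SylowFixed.fixCard 11 t ≤ 2 := not_lt.mp fun h => htC
    (CfsgLib.SmallGroups.SylowFixed.mem_centralizer_of_lt_fixCard P hP (t := 1) hn htN h)
  have h1 : 1 ≤ CfsgLib.SmallGroups.SylowFixed.fixCard 11 t := by
    haveI : Nonempty {Q : Sylow 11 G // t • Q = Q} :=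
      ⟨⟨P, Sylow.smul_eq_iff_mem_normalizer.mpr htN⟩⟩
    exact Nat.card_pos
  have h4 := CfsgLib.SmallGroups.SylowFixed.four_dvd_moved (p := 11) hna (g := t)
    (by rw [← sq, ← ht]; exact pow_orderOf_eq_one t)
  rw [hn] at h4
  omega

include hna in
set_option maxHeartbeats 1000000 in
/-- The centraliser of an inverting involution. -/
theorem inverting_centralizer [Fact (Nat.Prime 11)] (P : Sylow 11 G) (hP : Nat.card (P : Subgroup G) = 11)
    (hn : Nat.card (Sylow 11 G) = 144) (hC : Nat.card (centralizer ((P : Subgroup G) : Set G)) = 11)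
    (he : Nat.card (normalizer ((P : Subgroup G) : Set G)) = 110) :
    ∃ t : G, orderOf t = 2 ∧ 10 ∣ Nat.card (centralizer ({t} : Set G)) ∧
      Nat.card (centralizer ({t} : Set G)) ≤ 140 := by
  classical
  obtain ⟨t, ht, htN, htC⟩ := exists_inverting P hC he
  refine ⟨t, ht, ?_⟩
  set N := normalizer ((P : Subgroup G) : Set G) with hN
  set C := centralizer ((P : Subgroup G) : Set G) with hCdef
  set K := centralizer ({t} : Set G) with hK
  set D := (N ⊓ K).subgroupOf N with hD
  have hDc : Nat.card D = Nat.card (N ⊓ K : Subgroup G) :=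
    Nat.card_congr (subgroupOfEquivOfLe inf_le_left).toEquiv
  have hidx : D.index ≤ 11 := by
    rw [← hC, Subgroup.index_eq_card]
    let f : N ⧸ D → C := fun c => ⟨t⁻¹ * ((c.out : G) * t * (c.out : G)⁻¹), by
      have h1 : rhoU P hP (⟨t, htN⟩⁻¹ * (c.out * ⟨t, htN⟩ * c.out⁻¹)) = 1 := by
        rw [map_mul, map_mul, map_mul, map_inv, map_inv]
        rw [mul_inv_cancel_comm, inv_mul_cancel]
      have := (rho_eq_one_iff P hP _).mp (by
        rw [← coe_rhoU, h1, Units.val_one])
      show _ ∈ centralizer ((P : Subgroup G) : Set G)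
      simpa using this⟩
    refine Nat.card_le_card_of_injective f fun b c h => ?_
    have h' : (b.out : G) * t * (b.out : G)⁻¹ = (c.out : G) * t * (c.out : G)⁻¹ :=
      mul_left_cancel (congrArg (fun d : C => (d : G)) h)
    rw [← b.out_eq', ← c.out_eq', QuotientGroup.eq]
    show _ ∈ (N ⊓ K).subgroupOf N
    rw [Subgroup.mem_subgroupOf, Subgroup.mem_inf]
    refine ⟨(b.out⁻¹ * c.out).2, ?_⟩
    rw [hK, mem_centralizer_singleton_iff]
    simp only [Subgroup.coe_mul, Subgroup.coe_inv]
    calc (b.out : G)⁻¹ * (c.out : G) * t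
        = (b.out : G)⁻¹ * ((c.out : G) * t * (c.out : G)⁻¹) * (c.out : G) := by group
      _ = _ := by rw [← h']; group
  have hd : Nat.card (N ⊓ K : Subgroup G) ∣ 110 := he ▸ card_dvd_of_le inf_le_left
  have h11 : ¬ 11 ∣ Nat.card (N ⊓ K : Subgroup G) := by
    intro h
    obtain ⟨⟨z, hzN, hzK⟩, hz⟩ := exists_prime_orderOf_dvd_card' (G := ↥(N ⊓ K)) 11 h
    replace hz : orderOf z = 11 := by
      rw [← hz]; exact orderOf_injective (N ⊓ K).subtype Subtype.val_injective ⟨z, hzN, hzK⟩
    have hzP : z ∈ (P : Subgroup G) :=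
      CfsgLib.FGS.mem_of_mem_normalizer P ⟨1, by rw [hz, pow_one]⟩ hzN
    apply htC
    have hz1 : z ≠ 1 := fun e => by rw [e, orderOf_one] at hz; norm_num at hz
    rw [hCdef, CfsgLib.SmallGroups.SylowFixed.zpowers_eq_of_mem P hP hzP hz1, zpowers_eq_closure,
      centralizer_closure, mem_centralizer_singleton_iff]
    exact (mem_centralizer_singleton_iff.mp hzK).symm
  have h10 : Nat.card (N ⊓ K : Subgroup G) = 10 := by
    have hm := D.card_mul_index
    rw [hDc, he] at hm
    have key : ∀ k ∈ Nat.divisors 110, ¬ 11 ∣ k → 110 ≤ 11 * k → k = 10 := by decide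
    refine key _ (Nat.mem_divisors.mpr ⟨hd, by norm_num⟩) h11 ?_
    nlinarith
  set E := (N ⊓ K).subgroupOf K with hE
  have hEc : Nat.card E = 10 := by rw [hE, Nat.card_congr (subgroupOfEquivOfLe inf_le_right).toEquiv, h10]
  have hmul := E.card_mul_index
  rw [hEc] at hmul
  refine ⟨hmul ▸ dvd_mul_right 10 _, ?_⟩
  have hfix : CfsgLib.SmallGroups.SylowFixed.fixCard 11 t ≤ 14 := not_lt.mp fun h => htC
    (CfsgLib.SmallGroups.SylowFixed.mem_centralizer_of_lt_fixCard P hP (t := 13) hn htN h)
  have hi : E.index ≤ 14 := by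
    refine le_trans ?_ hfix
    rw [Subgroup.index_eq_card]
    let g : K ⧸ E → {Q : Sylow 11 G // t • Q = Q} := fun c => ⟨(c.out : G) • P, by
      rw [← mul_smul, show t * (c.out : G) = (c.out : G) * t from
        (mem_centralizer_singleton_iff.mp c.out.2).symm, mul_smul,
        Sylow.smul_eq_iff_mem_normalizer.mpr htN]⟩
    refine Nat.card_le_card_of_injective g fun b c h => ?_
    have h' : (b.out : G) • P = (c.out : G) • P := congrArg (fun Q : {Q : Sylow 11 G // t • Q = Q} => Q.1) h
    rw [← b.out_eq', ← c.out_eq', QuotientGroup.eq]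
    show _ ∈ (N ⊓ K).subgroupOf K
    rw [Subgroup.mem_subgroupOf, Subgroup.mem_inf]
    refine ⟨Sylow.smul_eq_iff_mem_normalizer.mp ?_, (b.out⁻¹ * c.out).2⟩
    simp only [Subgroup.coe_mul, Subgroup.coe_inv]
    rw [mul_smul, ← h', inv_smul_smul]
  omega

end CfsgLib.MTwelveNSE.Small
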