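import Cfsg.Agent.Lib.MTwelveNSE.SmallLocal

/-!
The principal block when the automizer of a Sylow 11-subgroup is of order ten.
-/

set_option autoImplicit false

noncomputable section

namespace CfsgLib.MTwelveNSE.Small

open Subgroup CfsgLib.InvolChar CfsgLib.Blocks CfsgLib.Blocks.PrimeSylow Cfsg
attribute [local instance] Classical.propDecidable

variable {G : Type*} [Group G] [Fintype G] [IsSimpleGroup G]
variable (hna : ¬ IsMulCommutative G)

omit [IsSimpleGroup G] in
set_option maxHeartbeats 1000000 in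
/-- Eleven signed characters of the principal block. -/
theorem block_ten [Fact (Nat.Prime 11)] (P : Sylow 11 G) (hP : Nat.card (P : Subgroup G) = 11)
    (he : (centralizer ((P : Subgroup G) : Set G)).relIndex (normalizer ((P : Subgroup G) : Set G)) = 10) :
    ∃ (B : Finset (IrrCharacter G)) (σ : IrrCharacter G → ℤ),
      CfsgLib.Char.irrOne ∈ B ∧ σ CfsgLib.Char.irrOne = 1 ∧ B.card = 11 ∧
      (∀ χ ∈ B, (σ χ = 1 ∨ σ χ = -1) ∧ (deg χ : ℤ) % 11 = σ χ % 11) ∧
      (∀ g : G, ¬ 11 ∣ orderOf g → ∑ χ ∈ B, (σ χ : ℂ) * (χ : G → ℂ) g = 0) ∧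
      ∀ y ∈ centralizer ((P : Subgroup G) : Set G), ∀ (hy : y * y = 1), orderOf y = 2 →
        ∀ χ ∈ B, intVal χ hy % 11 = σ χ % 11 := by
  classical
  obtain ⟨M, hM⟩ := CfsgLib.Invol.exists_isPModular 11 (by norm_num)
  haveI := hM.2.1
  obtain ⟨X, Y, hB, hXY, hXc, hYc, -, εX, ε, hX, hε, hYdeg, hYeq, hYrel⟩ :=
    principal_block_prime_sylow P hM hP 10 he
  have hdeg : ∀ χ : IrrCharacter G, charDegree (χ : G → ℂ) = deg χ :=
    CfsgLib.SmallGroups.BrauerFew.deg_eq_charDegree
  obtain ⟨θ, hYθ⟩ := Set.ncard_eq_one.mp (by rw [← Nat.card_coe_set_eq, hYc] : Y.ncard = 1)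
  have hθ : θ ∈ Y := by rw [hYθ]; rfl
  set one : IrrCharacter G := CfsgLib.Char.irrOne with hone
  set Xf : Finset (IrrCharacter G) := Finset.univ.filter (· ∈ X) with hXf
  have hXcard : Xf.card = 10 := by
    rw [hXf, ← Fintype.card_subtype, ← Nat.card_eq_fintype_card]; exact hXc
  have hθX : θ ∉ Xf := fun h => Set.disjoint_left.mp hXY (by simpa [hXf] using h) hθ
  let σ : IrrCharacter G → ℤ := fun χ => if χ ∈ X then εX χ else -ε
  have hσX : ∀ χ ∈ Xf, σ χ = εX χ := fun χ hχ => if_pos (by simpa [hXf] using hχ)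
  have hσθ : σ θ = -ε := if_neg (by simpa [hXf] using hθX)
  have hrel : ∀ g : G, ¬ 11 ∣ orderOf g → ∑ χ ∈ insert θ Xf, (σ χ : ℂ) * (χ : G → ℂ) g = 0 := by
    intro g hg
    have h := hYrel θ hθ g hg
    rw [finsum_mem_eq_sum_of_inter_support_eq (t := Xf) _ (by ext χ; simp [hXf])] at h
    rw [Finset.sum_insert hθX, hσθ, Finset.sum_congr rfl
      (g := fun χ : IrrCharacter G => (εX χ : ℂ) * (χ : G → ℂ) g) fun χ hχ => by rw [hσX χ hχ], ← h]
    push_cast; ring
  have h1B : one ∈ insert θ Xf := by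
    have h : one ∈ X ∪ Y := hB ▸ irrOne_mem_principalBlock
    rcases h with h | h
    · exact Finset.mem_insert_of_mem (by simpa [hXf] using h)
    · rw [hYθ] at h; rw [show one = θ from h]; exact Finset.mem_insert_self _ _
  have hσ : ∀ χ ∈ insert θ Xf, (σ χ = 1 ∨ σ χ = -1) ∧ (deg χ : ℤ) % 11 = σ χ % 11 := by
    intro χ hχ
    rcases Finset.mem_insert.mp hχ with rfl | hχ
    · have hd := hYdeg _ hθ
      rw [hdeg] at hd
      rw [hσθ]
      unfold Int.ModEq at hd
      push_cast at hd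
      rcases hε with rfl | rfl <;> omega
    · obtain ⟨hs, hd, -⟩ := hX χ (by simpa [hXf] using hχ)
      rw [hdeg] at hd
      rw [hσX χ hχ]
      exact ⟨hs, by exact_mod_cast hd⟩
  refine ⟨insert θ Xf, σ, h1B, ?_, by rw [Finset.card_insert_of_notMem hθX, hXcard], hσ, hrel, ?_⟩
  · obtain ⟨h, hd⟩ := hσ one h1B
    rw [show deg one = 1 from deg_irrOne] at hd
    omega
  · intro y hyC hy hy2
    have hX' : ∀ χ ∈ Xf, intVal χ hy % 11 = εX χ % 11 := by
      intro χ hχ
      obtain ⟨hs, hd, hval⟩ := hX χ (by simpa [hXf] using hχ)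
      rw [hdeg] at hd
      obtain ⟨k, hk⟩ := sum_cyclic χ (x := gen P hP) (y := y)
        ((Subgroup.mem_centralizer_iff.mp hyC) _ (gen_mem P hP)) (s := (εX χ : ℂ)) fun a ha ha1 b hb => by
          refine hval a (zpowers_gen P hP ▸ ha) ha1 b ((zpowers_le.mpr hyC :
            zpowers y ≤ centralizer ((P : Subgroup G) : Set G)) hb) ?_
          intro h
          have := h.trans (hy2 ▸ orderOf_dvd_of_mem_zpowers hb)
          norm_num at this
      rw [orderOf_gen P hP, hy2] at hk
      have hsum : ∑ b : zpowers y, (χ : G → ℂ) b = (deg χ : ℂ) + (intVal χ hy : ℂ) := by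
        have huniv : (Finset.univ : Finset (zpowers y)) = {1, ⟨y, mem_zpowers y⟩} := by
          refine (Finset.eq_univ_of_card _ ?_).symm
          rw [Finset.card_pair (fun h => by
            have h' : y = 1 := (congrArg Subtype.val h).symm
            rw [h', orderOf_one] at hy2; norm_num at hy2),
            ← Nat.card_eq_fintype_card, Nat.card_zpowers, hy2]
        rw [huniv, Finset.sum_pair (fun h => by
            have h' : y = 1 := (congrArg Subtype.val h).symm
            rw [h', orderOf_one] at hy2; norm_num at hy2),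
          OneMemClass.coe_one, deg_spec, intVal_spec χ hy]
      rw [hsum] at hk
      have hk' : (deg χ : ℤ) + intVal χ hy + (11 - 1) * (2 * εX χ) = 11 * 2 * (k : ℤ) := by
        exact_mod_cast hk
      unfold Int.ModEq at hd
      omega
    intro χ hχ
    rcases Finset.mem_insert.mp hχ with rfl | hχ
    · have h := hrel y (by rw [hy2]; norm_num)
      rw [Finset.sum_insert hθX] at h
      have h' : σ χ * intVal χ hy + ∑ ψ ∈ Xf, σ ψ * intVal ψ hy = 0 := by
        simp only [intVal_spec _ hy] at h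
        exact_mod_cast h
      have hsum : ((∑ ψ ∈ Xf, σ ψ * intVal ψ hy : ℤ) : ZMod 11) = 10 := by
        rw [Int.cast_sum, Finset.sum_congr rfl (g := fun _ => (1 : ZMod 11)) fun ψ hψ => ?_,
          Finset.sum_const, hXcard]
        · rfl
        · rw [Int.cast_mul, hσX ψ hψ, (ZMod.intCast_eq_intCast_iff _ _ 11).mpr (hX' ψ hψ)]
          rcases (hX ψ (by simpa [hXf] using hψ)).1 with e | e <;> rw [e] <;> norm_num
      have h11 : (∑ ψ ∈ Xf, σ ψ * intVal ψ hy) % 11 = 10 := by
        have := (ZMod.intCast_eq_intCast_iff' _ 10 11).mp (by rw [hsum]; norm_num)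
        exact_mod_cast this
      rw [hσθ] at h' ⊢
      rcases hε with rfl | rfl <;> omega
    · rw [hσX χ hχ]; exact hX' χ hχ

end CfsgLib.MTwelveNSE.Small
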